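/-
In a simple group with a strongly embedded subgroup `K`, a `K`-invariant subgroup of the Sylow subgroup of `K`
containing the involutions is the Sylow subgroup or has exponent at most two.
-/
import Cfsg.Agent.BenderSE.Criterion2.RootModel
import Cfsg.Agent.BenderSE.Dependents.Frame

set_option autoImplicit false
set_option linter.style.haveILetI false
set_option linter.unusedSectionVars false

namespace Cfsg.Lib.ShutClosed

open Subgroup MulAction Cfsg.Lib.InvolCalc Cfsg.Lib.StrongEmb Cfsg.Lib.BenderSE Cfsg.Lib.BenderSE.Crit2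

universe u

variable {L : Type u} [Group L] [Finite L]

theorem invariant_dichotomy [IsSimpleGroup L] {K L' P : Subgroup L} (hS : Setting K) (F : Frame K L' P)
    {Y : Subgroup L} (hYP : Y ≤ P) (hinv : ∀ h ∈ K, ∀ y ∈ Y, h * y * h⁻¹ ∈ Y)
    (hI : ∀ i : L, orderOf i = 2 → i ∈ K → i ∈ Y) : Y = P ∨ ∀ y ∈ Y, y * y = 1 := by
  classical
  haveI : Fact (Nat.Prime 2) := ⟨Nat.prime_two⟩
  haveI : FaithfulSMul L (L ⧸ K) := by
    constructor
    intro x y h
    have hk : y⁻¹ * x ∈ K.normalCore := by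
      rw [Subgroup.normalCore_eq_ker, MonoidHom.mem_ker]
      refine Equiv.ext fun p => ?_
      show (y⁻¹ * x) • p = p
      rw [mul_smul, h p, inv_smul_smul]
    rw [normalCore_eq_bot_of_simple hS.se, mem_bot, inv_mul_eq_one] at hk
    exact hk.symm
  have hbase : stabilizer L ((1 : L) : L ⧸ K) = K := MulAction.stabilizer_quotient K
  have hS' : Setting (stabilizer L ((1 : L) : L ⧸ K)) := hbase.symm ▸ hS
  obtain ⟨Q, C, k, e, M⟩ := exists_modelData (a := ((1 : L) : L ⧸ K)) hS'
  have hQK : Q ≤ K := hbase ▸ M.qle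
  have hQP : Q = P := by
    obtain ⟨SP, hSP⟩ := F.sylow
    refine le_antisymm ?_ (M.qmax P F.q2 (by rw [hbase]; exact F.qle))
    have hsup : IsPGroup 2 (P ⊔ Q : Subgroup L) :=
      IsPGroup.to_sup_of_normal_left' F.q2 M.q2 (hQK.trans F.qn)
    have h1 := SP.3 hsup (by rw [hSP]; exact le_sup_left)
    rw [hSP] at h1
    exact h1 ▸ le_sup_right
  subst hQP
  refine or_iff_not_imp_right.2 fun hne => ?_
  push Not at hne
  obtain ⟨y, hy, hy2⟩ := hne
  set I := {i : L // orderOf i = 2 ∧ i ∈ stabilizer L ((1 : L) : L ⧸ K)} with hIdef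
  have hIQ : ∀ i : I, (i : L) ∈ Q := fun i => (M.qinvol i i.2.1 i.2.2).1
  have hIY : ∀ i : I, (i : L) ∈ Y := fun i => hI i i.2.1 (SetLike.ext_iff.1 hbase _ |>.1 i.2.2)
  let iv : Option I → L := fun o => o.elim 1 fun i => (i : L)
  have hiv : ∀ o, iv o ∈ Y ∧ iv o * iv o = 1 := fun o => by
    rcases o with _ | i
    · exact ⟨one_mem Y, one_mul 1⟩
    · exact ⟨hIY i, sq_of_order_two i.2.1⟩
  have hivc : ∀ o, ∀ q ∈ Q, Commute (iv o) q := fun o q hq => by
    rcases o with _ | i
    · exact Commute.one_left q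
    · exact (M.qinvol i i.2.1 i.2.2).2 q hq
  have hivinj : Function.Injective iv := by
    rintro (_ | a) (_ | b) h
    · rfl
    · exact absurd h.symm (ne_one_of_order_two b.2.1)
    · exact absurd h (ne_one_of_order_two a.2.1)
    · exact congrArg some (Subtype.ext h)
  have hIc : Nat.card (Option I) = 2 ^ k := by rw [Finite.card_option]; exact M.cardI
  rcases M.ecase with he | he | he
  · -- every element is an involution
    exfalso
    refine hy2 ?_
    have hb : Function.Bijective (fun o : Option I => (⟨iv o, hYP (hiv o).1⟩ : Q)) :=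
      (Nat.bijective_iff_injective_and_card _).2 ⟨fun a b h => hivinj (congrArg Subtype.val h),
        by rw [hIc, M.cardQ, he, pow_one]⟩
    obtain ⟨o, ho⟩ := hb.2 ⟨y, hYP hy⟩
    rw [← show iv o = y from congrArg Subtype.val ho]
    exact (hiv o).2
  · -- the squares reach every involution
    obtain ⟨r, hr⟩ := M.q2.exists_orderOf_eq_pow ⟨y, hYP hy⟩
    rw [Subgroup.orderOf_mk] at hr
    have hr2 : 2 ≤ r := by
      by_contra hlt
      refine hy2 ?_
      rw [← pow_two, ← orderOf_dvd_iff_pow_eq_one, hr]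
      exact (pow_dvd_pow 2 (show r ≤ 1 by omega)).trans (by norm_num)
    set y₁ := y ^ 2 ^ (r - 2) with hy₁
    have hy₁Y : y₁ ∈ Y := pow_mem hy _
    set i₀ := y₁ * y₁ with hi₀
    have hi₀2 : orderOf i₀ = 2 := by
      rw [hi₀, hy₁, ← pow_add, ← two_mul, ← pow_succ', orderOf_pow_of_dvd (pow_ne_zero _ two_ne_zero)
        (hr ▸ pow_dvd_pow 2 (by omega)), hr, Nat.pow_div (by omega) two_pos,
        show r - (r - 2 + 1) = 1 by omega, pow_one]
    have hi₀K : i₀ ∈ stabilizer L ((1 : L) : L ⧸ K) := M.qle (mul_mem (hYP hy₁Y) (hYP hy₁Y))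
    have hsq : ∀ o : Option I, ∃ w ∈ Y, w * w = iv o := fun o => by
      rcases o with _ | i
      · exact ⟨1, one_mem Y, one_mul 1⟩
      · obtain ⟨c, hc, hce⟩ := M.ctrans i₀ i hi₀2 hi₀K i.2.1 i.2.2
        refine ⟨c * y₁ * c⁻¹, hinv c (hbase ▸ M.cle hc) y₁ hy₁Y, ?_⟩
        show _ = (i : L)
        rw [← hce, hi₀]
        group
    choose w hwY hw using hsq
    have hinj : Function.Injective
        (fun p : Option I × Option I => (⟨w p.1 * iv p.2, mul_mem (hwY p.1) (hiv p.2).1⟩ : Y)) := by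
      rintro ⟨a, b⟩ ⟨a', b'⟩ h
      have h1 : w a * iv b = w a' * iv b' := congrArg Subtype.val h
      have hsqr : ∀ a b, w a * iv b * (w a * iv b) = iv a := fun a b => by
        rw [show w a * iv b * (w a * iv b) = w a * (iv b * w a) * iv b by group,
          (hivc b _ (hYP (hwY a))).eq, ← mul_assoc, mul_assoc, (hiv b).2, mul_one, hw]
      obtain rfl : a = a' := hivinj (by rw [← hsqr a b, h1, hsqr a' b'])
      exact Prod.ext rfl (hivinj (mul_left_cancel h1))
    refine eq_of_le_of_card_ge hYP ?_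
    have := Nat.card_le_card_of_injective _ hinj
    rw [Nat.card_prod, hIc] at this
    rw [M.cardQ, he, pow_two]
    exact this
  · -- the torus is irreducible
    obtain ⟨t, hs, hq⟩ := RootModel.exists_simple hS' M
    obtain ⟨F', E, _, _, _, _, _, _, ⟨Fr⟩⟩ := RootModel.exists_frame hs (by rw [hq, M.cardQ, he])
    refine RootModel.irreducible Fr hYP (fun x hx v hv => hinv x (hbase ▸
      (mem_inf.1 (RootModel.torus_le Fr hx)).1) v hv) hy (fun h0 => hy2 ?_) fun z hz hz2 => ?_
    · exact (Fr.ca_zero_iff y (hYP hy)).1 h0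
    · by_cases h1 : z = 1
      · exact h1 ▸ one_mem Y
      · exact hI z (order_two_of_mul_self hz2 h1) (hQK hz)

end Cfsg.Lib.ShutClosed
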