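/-
A strongly closed cyclic 2-subgroup is normal when the odd core is trivial, and so is a strongly closed
extension of a normal cyclic 2-subgroup by a group of order two.
-/
import Cfsg.Agent.InvolCalc.ZStarApps
import Cfsg.Agent.InvolCalc.Classes
import Cfsg.Agent.InvolCalc.Isolated
import Cfsg.Agent.InvolCalc.StronglyEmbedded
import Cfsg.Agent.Components.PComponents
import Cfsg.Agent.S4593
import Cfsg.Prelude.Def_TwoFusion

set_option autoImplicit false
set_option linter.style.haveILetI false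
set_option linter.unusedSectionVars false

namespace Cfsg.Lib.ShutClosed

open Subgroup Cfsg.Lib.InvolCalc Cfsg.Lib.ZStarApps Cfsg.Lib.StrongEmb Cfsg.Lib.Isolated

universe u

variable {F : Type u} [Group F] [Finite F]

/-- strong closure passes to a subgroup containing the Sylow subgroup -/
theorem closed_subgroupOf {A P : Subgroup F} (h : Cfsg.IsStronglyClosed A P) (Y : Subgroup F) :
    Cfsg.IsStronglyClosed (A.subgroupOf Y) (P.subgroupOf Y) :=
  ⟨fun x hx => mem_subgroupOf.2 (h.1 (mem_subgroupOf.1 hx)), fun x hx g hg =>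
    mem_subgroupOf.2 (h.2 _ (mem_subgroupOf.1 hx) (g : F) (mem_subgroupOf.1 hg))⟩

/-- the unique involution of a strongly closed subgroup is isolated -/
theorem isolated_unique {T : Sylow 2 F} {A : Subgroup F} (hA : Cfsg.IsStronglyClosed A (T : Subgroup F))
    {z : F} (hz : z ∈ A) (hz2 : orderOf z = 2) (hu : ∀ a ∈ A, orderOf a = 2 → a = z) :
    Cfsg.IsIsolatedInvolution z :=
  ⟨hz2, fun g hg => by
    haveI : Fact (Nat.Prime 2) := ⟨Nat.prime_two⟩
    exact isolated_of_unique T hz2 (fun h hh => hu _ (hA.2 z hz h hh) (by rw [orderOf_conj', hz2]))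
      (by first | exact hg | exact hg.symm)⟩

theorem mem_center_of_isolatedInvolution (hO : Cfsg.pPrimeCore 2 F = ⊥) {z : F}
    (hz : Cfsg.IsIsolatedInvolution z) : z ∈ center F :=
  mem_center_iff.2 fun g => by
    have h := zstarProp hz g
    rw [hO, mem_bot] at h
    exact ((mul_inv_eq_iff_eq_mul.1 (mul_inv_eq_one.1 h))).symm

/-- an element of order two in a cyclic group is unique -/
theorem eq_of_order_two_of_cyclic {A : Subgroup F} (hc : IsCyclic A) {a b : F} (ha : a ∈ A) (hb : b ∈ A)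
    (ha2 : orderOf a = 2) (hb2 : orderOf b = 2) : a = b := by
  classical
  haveI := hc
  haveI := Fintype.ofFinite ↥A
  by_contra hne
  have h := IsCyclic.card_pow_eq_one_le (α := ↥A) (n := 2) (by norm_num)
  have h2 : ({1, ⟨a, ha⟩, ⟨b, hb⟩} : Finset ↥A) ⊆ Finset.univ.filter (fun z : ↥A => z ^ 2 = 1) := by
    intro z hz
    simp only [Finset.mem_insert, Finset.mem_singleton] at hz
    rw [Finset.mem_filter]
    refine ⟨Finset.mem_univ _, ?_⟩
    rcases hz with rfl | rfl | rfl
    · exact one_pow 2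
    · exact Subtype.ext (by simpa [← ha2] using pow_orderOf_eq_one a)
    · exact Subtype.ext (by simpa [← hb2] using pow_orderOf_eq_one b)
  have h3 : ({1, ⟨a, ha⟩, ⟨b, hb⟩} : Finset ↥A).card = 3 := by
    rw [Finset.card_insert_of_notMem, Finset.card_insert_of_notMem, Finset.card_singleton]
    · simp only [Finset.mem_singleton]
      exact fun e => hne (congrArg Subtype.val e)
    · simp only [Finset.mem_insert, Finset.mem_singleton, not_or]
      exact ⟨fun e => ne_one_of_order_two ha2 (congrArg Subtype.val e).symm,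
        fun e => ne_one_of_order_two hb2 (congrArg Subtype.val e).symm⟩
  have := Finset.card_le_card h2
  omega

theorem cyclic_normal_aux : ∀ (n : ℕ) (F : Type u) [Group F] [Finite F], Nat.card F = n →
    Cfsg.pPrimeCore 2 F = ⊥ → ∀ (T : Sylow 2 F) (C : Subgroup F),
      Cfsg.IsStronglyClosed C (T : Subgroup F) → IsCyclic C → C.Normal := by
  intro n
  induction n using Nat.strong_induction_on with
  | _ n ih =>
  intro F _ _ hn hO T C hC hcyc
  haveI : Fact (Nat.Prime 2) := ⟨Nat.prime_two⟩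
  by_cases hbot : C = ⊥
  · rw [hbot]; infer_instance
  have hev : Even (Nat.card C) := by
    obtain ⟨k, hk⟩ := IsPGroup.iff_card.1 (T.2.to_le hC.1)
    rcases k.eq_zero_or_pos with rfl | hk0
    · exact absurd (eq_bot_of_card_eq C (by rw [hk, pow_zero])) hbot
    · rw [hk]; exact Nat.even_pow.2 ⟨even_two, hk0.ne'⟩
  obtain ⟨z, hzC, hz⟩ := exists_involution_of_even hev
  have hzc : z ∈ center F := mem_center_of_isolatedInvolution hO
    (isolated_unique hC hzC hz fun a ha ha2 => eq_of_order_two_of_cyclic hcyc ha hzC ha2 hz)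
  set Z := zpowers z with hZ
  have hZc : Z ≤ center F := zpowers_le.2 hzc
  haveI hZn : Z.Normal := ⟨fun w hw g => by rwa [mem_center_iff.1 (hZc hw) g, mul_inv_cancel_right]⟩
  have hlt : Nat.card (F ⧸ Z) < n := by
    have h1 := Subgroup.card_eq_card_quotient_mul_card_subgroup Z
    rw [show Nat.card Z = 2 by rw [hZ, Nat.card_zpowers, hz], hn] at h1
    have := Nat.card_pos (α := F ⧸ Z)
    omega
  haveI hN : (C.map (QuotientGroup.mk' Z)).Normal := ih _ hlt (F ⧸ Z) rfl
    (Cfsg.Lib.AbelianSylowTwoInner.pPrimeCore_quotient_eq_bot hO Z hZc (T.2.to_le (zpowers_le.2 (hC.1 hzC))))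
    (T.mapSurjective (QuotientGroup.mk'_surjective Z)) (C.map (QuotientGroup.mk' Z))
    (by rw [Sylow.coe_mapSurjective]; exact stronglyClosed_quotient T hC Z)
    (by
      haveI := hcyc
      exact isCyclic_of_surjective _ ((QuotientGroup.mk' Z).subgroupMap_surjective C))
  have := hN.comap (QuotientGroup.mk' Z)
  rwa [comap_map_eq, QuotientGroup.ker_mk', sup_eq_left.2 (zpowers_le.2 hzC)] at this

/-- a strongly closed cyclic 2-subgroup is normal when the odd core is trivial -/
theorem cyclic_normal (hO : Cfsg.pPrimeCore 2 F = ⊥) (T : Sylow 2 F) {C : Subgroup F}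
    (hC : Cfsg.IsStronglyClosed C (T : Subgroup F)) (hcyc : IsCyclic C) : C.Normal :=
  cyclic_normal_aux _ F rfl hO T C hC hcyc

/-- an element of odd order normalising a cyclic 2-group centralises it -/
theorem commute_of_odd_of_cyclic {c w : F} {a : ℕ} (hc : orderOf c = 2 ^ a) (hw : Odd (orderOf w))
    (hn : w * c * w⁻¹ ∈ zpowers c) : Commute w c := by
  obtain ⟨k, hk⟩ := mem_zpowers_iff.1 hn
  rcases a.eq_zero_or_pos with rfl | ha
  · rw [pow_zero, orderOf_eq_one_iff] at hc
    rw [hc]; exact Commute.one_right w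
  have hpow : ∀ m : ℕ, w ^ m * c * (w ^ m)⁻¹ = c ^ (k ^ m) := by
    intro m
    induction m with
    | zero => simp
    | succ m ih =>
      rw [pow_succ, show w ^ m * w * c * (w ^ m * w)⁻¹ = w ^ m * (w * c * w⁻¹) * (w ^ m)⁻¹ by group,
        ← hk, ← conj_zpow, ih, ← zpow_mul, ← pow_succ]
  have hodd : Odd k := by
    rw [← Int.not_even_iff_odd]
    rintro ⟨j, rfl⟩
    have h1 : orderOf (w * c * w⁻¹) = 2 ^ a := by rw [orderOf_conj', hc]
    have h2 : (w * c * w⁻¹) ^ 2 ^ (a - 1) = 1 := by
      rw [← hk, ← zpow_natCast, ← zpow_mul, show (j + j) * ((2 ^ (a - 1) : ℕ) : ℤ) = ((2 ^ a : ℕ) : ℤ) * j by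
        obtain ⟨b, rfl⟩ : ∃ b, a = b + 1 := ⟨a - 1, by omega⟩
        rw [Nat.add_sub_cancel, pow_succ]; push_cast; ring, zpow_mul, zpow_natCast, ← hc,
        pow_orderOf_eq_one, one_zpow]
    have h3 := Nat.le_of_dvd (by positivity) (h1 ▸ orderOf_dvd_of_pow_eq_one h2)
    exact absurd h3 (not_le.2 (Nat.pow_lt_pow_right one_lt_two (by omega)))
  have hfix : w ^ 2 ^ a * c * (w ^ 2 ^ a)⁻¹ = c := by
    rw [hpow]
    have hdvd : ((orderOf c : ℕ) : ℤ) ∣ k ^ 2 ^ a - 1 := by
      rw [hc]
      clear * - hodd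
      push_cast
      induction a with
      | zero => simp
      | succ a ih =>
        rw [pow_succ (2 : ℕ), pow_mul, show (k ^ 2 ^ a) ^ 2 - 1 = (k ^ 2 ^ a - 1) * (k ^ 2 ^ a + 1) by ring,
          pow_succ (2 : ℤ)]
        refine mul_dvd_mul ih ?_
        exact even_iff_two_dvd.1 ((hodd.pow).add_odd odd_one)
    conv_rhs => rw [← zpow_one c]
    exact (orderOf_dvd_sub_iff_zpow_eq_zpow (x := c)).1 hdvd
  obtain ⟨m, hm⟩ := exists_pow_eq_self_of_coprime (x := w) (n := 2 ^ a)
    (Nat.Coprime.pow_left a (Nat.coprime_two_left.2 hw))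
  rw [← hm]
  exact (show Commute (w ^ 2 ^ a) c from mul_inv_eq_iff_eq_mul.1 hfix).pow_left m

/-- the odd core of the quotient by a normal cyclic 2-subgroup -/
theorem pPrimeCore_quotient_cyclic (hO : Cfsg.pPrimeCore 2 F = ⊥) {c : F} {a : ℕ} (hc : orderOf c = 2 ^ a)
    [hn : (zpowers c).Normal] : Cfsg.pPrimeCore 2 (F ⧸ zpowers c) = ⊥ := by
  haveI : Fact (Nat.Prime 2) := ⟨Nat.prime_two⟩
  set π := QuotientGroup.mk' (zpowers c) with hπ
  set O := Cfsg.pPrimeCore 2 (F ⧸ zpowers c) with hO'
  set N := O.comap π with hN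
  haveI hOn : O.Normal := Cfsg.Lib.Components.normal_of_mem_sSup_normal fun M hM => hM.1
  haveI hNn : N.Normal := hOn.comap _
  have hOodd : Odd (Nat.card O) := odd_card_pPrimeCore
  -- the preimage centralises the cyclic group
  have hcent : ∀ x ∈ N, Commute x c := by
    intro x hx
    set n := orderOf (π x) with hn'
    have hnodd : Odd n := hOodd.of_dvd_nat (Subgroup.orderOf_dvd_natCard O hx)
    have hxn : x ^ n ∈ zpowers c := (QuotientGroup.eq_one_iff _).1 (show π (x ^ n) = 1 by
      rw [map_pow, pow_orderOf_eq_one])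
    obtain ⟨j, hj⟩ := mem_zpowers_iff.1 hxn
    have hx2 : (x ^ 2 ^ a) ^ n = 1 := by
      rw [← pow_mul, mul_comm, pow_mul, ← hj, ← zpow_natCast, ← zpow_mul, mul_comm, zpow_mul, zpow_natCast,
        ← hc, pow_orderOf_eq_one, one_zpow]
    have h1 : Commute (x ^ 2 ^ a) c := commute_of_odd_of_cyclic hc
      (hnodd.of_dvd_nat (orderOf_dvd_of_pow_eq_one hx2)) (hn.conj_mem c (mem_zpowers c) _)
    have h2 : Commute (x ^ n) c := by rw [← hj]; exact (Commute.refl c).zpow_left j
    obtain ⟨u, v, huv⟩ : ∃ u v : ℤ, u * ((2 ^ a : ℕ) : ℤ) + v * (n : ℤ) = 1 :=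
      Int.isCoprime_iff_nat_coprime.2 (by
        simpa using Nat.Coprime.pow_left a (Nat.coprime_two_left.2 hnodd))
    have h3 := (h1.zpow_left u).mul_left (h2.zpow_left v)
    rwa [← zpow_natCast, ← zpow_natCast x n, ← zpow_mul, ← zpow_mul, ← zpow_add, mul_comm _ u,
      mul_comm _ v, huv, zpow_one] at h3
  have hON : Cfsg.pPrimeCore 2 N = ⊥ := by
    haveI : (Cfsg.pPrimeCore 2 N).Characteristic := Cfsg.Lib.Components.pPrimeCore_characteristic
    haveI : ((Cfsg.pPrimeCore 2 N).map N.subtype).Normal := ConjAct.normal_of_characteristic_of_normal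
    have h := Cfsg.Lib.Components.le_pPrimeCore (p := 2) (N := (Cfsg.pPrimeCore 2 N).map N.subtype) (by
      rw [card_map_of_injective N.subtype_injective]; exact Nat.coprime_two_right.2 odd_card_pPrimeCore)
    rw [hO, le_bot_iff] at h
    exact (map_eq_bot_iff_of_injective _ N.subtype_injective).1 h
  set Z := (zpowers c).subgroupOf N with hZ
  have hcN : zpowers c ≤ N := fun w hw => by
    rw [hN, mem_comap, show π w = 1 from (QuotientGroup.eq_one_iff w).2 hw]; exact one_mem _
  have hZc : Z ≤ center N := fun w hw => mem_center_iff.2 fun y => Subtype.ext (by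
    obtain ⟨j, hj⟩ := mem_zpowers_iff.1 (mem_subgroupOf.1 hw)
    show (y : F) * (w : F) = (w : F) * (y : F)
    rw [← hj]
    exact ((hcent y y.2).zpow_right j).eq)
  have hZ2 : IsPGroup 2 Z := (IsPGroup.of_card (n := a) (by rw [Nat.card_zpowers, hc])).of_equiv
    (subgroupOfEquivOfLe hcN).symm
  have hq := Cfsg.Lib.AbelianSylowTwoInner.pPrimeCore_quotient_eq_bot hON Z hZc hZ2
  have hqodd : Odd (Nat.card (N ⧸ Z)) := by
    rw [← Subgroup.index_eq_card, hZ]
    show Odd ((zpowers c).relIndex N)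
    have h : (zpowers c).relIndex N = Nat.card O := by
      have := Subgroup.relIndex_comap (⊥ : Subgroup (F ⧸ zpowers c)) π N
      rw [MonoidHom.comap_bot, hπ, QuotientGroup.ker_mk', relIndex_bot_left,
        map_comap_eq_self_of_surjective (QuotientGroup.mk'_surjective _)] at this
      exact this
    rw [h]; exact hOodd
  have htop : (⊤ : Subgroup (N ⧸ Z)) ≤ Cfsg.pPrimeCore 2 (N ⧸ Z) :=
    Cfsg.Lib.Components.le_pPrimeCore (by
      rw [Nat.card_congr Subgroup.topEquiv.toEquiv]; exact Nat.coprime_two_right.2 hqodd)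
  rw [hq] at htop
  refine eq_bot_iff.2 fun q hq' => ?_
  obtain ⟨x, rfl⟩ := QuotientGroup.mk'_surjective _ q
  have h1 : (⟨x, hq'⟩ : N) ∈ Z := (QuotientGroup.eq_one_iff _).1 (mem_bot.1 (htop (mem_top _)))
  exact mem_bot.2 ((QuotientGroup.eq_one_iff _).2 (mem_subgroupOf.1 h1))

/-- a strongly closed subgroup with a normal cyclic subgroup of index two is normal -/
theorem normal_of_cyclic_step (hO : Cfsg.pPrimeCore 2 F = ⊥) (T : Sylow 2 F) {S : Subgroup F}
    (hS : Cfsg.IsStronglyClosed S (T : Subgroup F)) {c x : F} {a : ℕ} (hc : orderOf c = 2 ^ a)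
    [(zpowers c).Normal] (hcS : c ∈ S) (hxS : x ∈ S) (hxc : x ∉ zpowers c) (hx2 : x * x ∈ zpowers c)
    (hmem : ∀ s ∈ S, s ∈ zpowers c ∨ x⁻¹ * s ∈ zpowers c) : S.Normal := by
  haveI : Fact (Nat.Prime 2) := ⟨Nat.prime_two⟩
  set π := QuotientGroup.mk' (zpowers c) with hπ
  have hπ2 : orderOf (π x) = 2 := orderOf_eq_prime (by
      rw [pow_two, ← map_mul]; exact (QuotientGroup.eq_one_iff _).2 hx2)
    fun h => hxc ((QuotientGroup.eq_one_iff x).1 h)
  have hone : ∀ s ∈ S, π s = 1 ∨ π s = π x := fun s hs => (hmem s hs).imp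
    (fun h => (QuotientGroup.eq_one_iff s).2 h) fun h => (QuotientGroup.eq.2 h).symm
  have hz : π x ∈ center (F ⧸ zpowers c) := mem_center_of_isolatedInvolution
    (pPrimeCore_quotient_cyclic hO hc)
    (isolated_unique (T := T.mapSurjective (QuotientGroup.mk'_surjective _)) (A := S.map π)
      (by rw [Sylow.coe_mapSurjective]; exact stronglyClosed_quotient T hS (zpowers c))
      (mem_map_of_mem π hxS) hπ2 (by
        rintro _ ⟨s, hs, rfl⟩ hs2
        refine (hone s hs).resolve_left fun h => ?_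
        rw [h, orderOf_one] at hs2
        exact absurd hs2 (by decide)))
  haveI : (S.map π).Normal := ⟨fun w hw g => by
    obtain ⟨s, hs, rfl⟩ := hw
    have : π s ∈ center (F ⧸ zpowers c) := by
      rcases hone s hs with h | h <;> rw [h]
      · exact one_mem _
      · exact hz
    rw [mem_center_iff.1 this g, mul_inv_cancel_right]
    exact mem_map_of_mem π hs⟩
  have := (inferInstance : (S.map π).Normal).comap π
  rwa [comap_map_eq, hπ, QuotientGroup.ker_mk', sup_eq_left.2 (zpowers_le.2 hcS)] at this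

end Cfsg.Lib.ShutClosed
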