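/-
Generalised quaternion subgroups: generators, and the elements normalising the subgroup and its cyclic part
act through inner elements of it up to one parity.
-/
import Cfsg.Agent.TwoFusion.ShutClosed.Cyclic
import Cfsg.Agent.RankOneInter.Basic
import Cfsg.Agent.PGroups.Basic
import Mathlib.GroupTheory.SpecificGroups.Quaternion

set_option autoImplicit false
set_option linter.style.haveILetI false
set_option linter.unusedSectionVars false

namespace Cfsg.Lib.ShutClosed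

open Subgroup Cfsg.Lib.InvolCalc

universe u

variable {F : Type u} [Group F] [Finite F] {S : Subgroup F} {m : ℕ} {y x z : F}

/-- the elements acting on `S` as one of its elements does -/
def innerSub (S : Subgroup F) : Subgroup F where
  carrier := {t | ∃ s ∈ S, ∀ a ∈ S, t * a * t⁻¹ = s * a * s⁻¹}
  one_mem' := ⟨1, one_mem S, fun a _ => rfl⟩
  mul_mem' := by
    rintro t u ⟨s, hs, e⟩ ⟨s', hs', e'⟩
    refine ⟨s * s', mul_mem hs hs', fun a ha => ?_⟩
    rw [show t * u * a * (t * u)⁻¹ = t * (u * a * u⁻¹) * t⁻¹ by group, e' a ha,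
      e _ (mul_mem (mul_mem hs' ha) (inv_mem hs'))]
    group
  inv_mem' := by
    rintro t ⟨s, hs, e⟩
    refine ⟨s⁻¹, inv_mem hs, fun a ha => ?_⟩
    have h := e (s⁻¹ * a * s) (mul_mem (mul_mem (inv_mem hs) ha) hs)
    rw [show s * (s⁻¹ * a * s) * s⁻¹ = a by group] at h
    conv_lhs => rw [← h]
    group

theorem le_innerSub : S ≤ innerSub S := fun s hs => ⟨s, hs, fun _ _ => rfl⟩

theorem centralizer_le_innerSub : centralizer (S : Set F) ≤ innerSub S := fun t ht =>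
  ⟨1, one_mem S, fun a ha => by rw [← mem_centralizer_iff.1 ht a ha]; group⟩

theorem innerSub_conj {g t : F} (hg : g ∈ normalizer (S : Set F)) (ht : t ∈ innerSub S) :
    g * t * g⁻¹ ∈ innerSub S := by
  obtain ⟨s, hs, e⟩ := ht
  refine ⟨g * s * g⁻¹, (mem_normalizer_iff.1 hg s).1 hs, fun a ha => ?_⟩
  have ha' : g⁻¹ * a * g ∈ S := by simpa using (mem_normalizer_iff.1 (inv_mem hg) a).1 ha
  calc g * t * g⁻¹ * a * (g * t * g⁻¹)⁻¹ = g * (t * (g⁻¹ * a * g) * t⁻¹) * g⁻¹ := by group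
    _ = g * (s * (g⁻¹ * a * g) * s⁻¹) * g⁻¹ := by rw [e _ ha']
    _ = _ := by group

/-- generators of a generalised quaternion group -/
structure QData (S : Subgroup F) (m : ℕ) (y x z : F) : Prop where
  ord : orderOf y = 2 ^ (m + 2)
  conj : x * y * x⁻¹ = y⁻¹
  sq : x * x = z
  zdef : y ^ 2 ^ (m + 1) = z
  ymem : y ∈ S
  xmem : x ∈ S
  not_mem : x ∉ zpowers y
  cases : ∀ s ∈ S, s ∈ zpowers y ∨ x⁻¹ * s ∈ zpowers y

theorem exists_qdata {n : ℕ} (e : S ≃* QuaternionGroup (2 ^ (n + 1))) : ∃ y x z : F, QData S n y x z := by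
  have ha : (QuaternionGroup.a 1 : QuaternionGroup (2 ^ (n + 1))) ^ 2 ^ (n + 1) =
      QuaternionGroup.a (((2 ^ (n + 1) : ℕ)) : ZMod (2 * 2 ^ (n + 1))) := QuaternionGroup.a_one_pow _
  refine ⟨e.symm (QuaternionGroup.a 1), e.symm (QuaternionGroup.xa 0),
    e.symm (QuaternionGroup.a ((2 ^ (n + 1) : ℕ) : ZMod (2 * 2 ^ (n + 1)))),
    ?_, ?_, ?_, ?_, SetLike.coe_mem _, SetLike.coe_mem _, ?_, ?_⟩
  · rw [Subgroup.orderOf_coe, MulEquiv.orderOf_eq, QuaternionGroup.orderOf_a_one, ← pow_succ']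
  · rw [← Subgroup.coe_mul, ← Subgroup.coe_inv, ← Subgroup.coe_mul, ← Subgroup.coe_inv]
    refine congrArg Subtype.val (e.injective ?_)
    simp only [map_mul, map_inv, MulEquiv.apply_symm_apply]
    rw [mul_inv_eq_iff_eq_mul, show (QuaternionGroup.a 1 : QuaternionGroup (2 ^ (n + 1)))⁻¹ =
      QuaternionGroup.a (-1) from rfl, QuaternionGroup.xa_mul_a, QuaternionGroup.a_mul_xa]
    simp
  · rw [← Subgroup.coe_mul, ← map_mul, QuaternionGroup.xa_mul_xa]
    simp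
  · rw [← Subgroup.coe_pow, ← map_pow, ha]
  · intro h
    obtain ⟨k, hk⟩ := mem_zpowers_iff.1 h
    rw [← Subgroup.coe_zpow] at hk
    have hk' := Subtype.val_injective hk
    rw [← map_zpow] at hk'
    have h1 : QuaternionGroup.xa 0 ∈ zpowers (QuaternionGroup.a 1 : QuaternionGroup (2 ^ (n + 1))) :=
      ⟨k, e.symm.injective hk'⟩
    rw [mem_zpowers_iff_mem_range_orderOf] at h1
    simp only [Finset.mem_image] at h1
    obtain ⟨j, -, hj⟩ := h1
    rw [QuaternionGroup.a_one_pow] at hj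
    exact absurd hj (by simp)
  · intro s hs
    obtain ⟨v, hv⟩ : ∃ v, e ⟨s, hs⟩ = v := ⟨_, rfl⟩
    have hs' : s = (e.symm v : S) := by rw [← hv, MulEquiv.symm_apply_apply]
    have hA : ∀ i : ZMod (2 * 2 ^ (n + 1)), ((e.symm (QuaternionGroup.a i) : S) : F) ∈
        zpowers ((e.symm (QuaternionGroup.a 1) : S) : F) := fun i => by
      have : (QuaternionGroup.a i : QuaternionGroup (2 ^ (n + 1))) = QuaternionGroup.a 1 ^ i.val := by
        rw [QuaternionGroup.a_one_pow, ZMod.natCast_zmod_val]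
      rw [this, map_pow, Subgroup.coe_pow]
      exact pow_mem (mem_zpowers _) _
    cases v with
    | a i => exact Or.inl (hs' ▸ hA i)
    | xa i =>
      refine Or.inr ?_
      have : (QuaternionGroup.xa i : QuaternionGroup (2 ^ (n + 1))) =
          QuaternionGroup.xa 0 * QuaternionGroup.a i := by rw [QuaternionGroup.xa_mul_a, zero_add]
      rw [hs', this, map_mul, Subgroup.coe_mul, inv_mul_cancel_left]
      exact hA i

namespace QData

variable (D : QData S m y x z)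
include D

theorem zpow_x (i : ℤ) : x * y ^ i * x⁻¹ = y ^ (-i) := by rw [← conj_zpow, D.conj, inv_zpow, zpow_neg]

theorem conj_y (i : ℤ) : y ^ i * x * (y ^ i)⁻¹ = x * y ^ (-2 * i) :=
  calc y ^ i * x * (y ^ i)⁻¹ = x * (x⁻¹ * (y ^ i) * x) * (y ^ i)⁻¹ := by group
    _ = x * y ^ (-i) * (y ^ i)⁻¹ := by
      rw [show x⁻¹ * y ^ i * x = y ^ (-i) by
        rw [show y ^ i = x * y ^ (-i) * x⁻¹ by rw [D.zpow_x, neg_neg]]; group]
    _ = x * y ^ (-2 * i) := by rw [mul_assoc, ← zpow_neg, ← zpow_add]; congr 2; ring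

theorem sq_out (i : ℤ) : x * y ^ i * (x * y ^ i) = z :=
  calc x * y ^ i * (x * y ^ i) = x * y ^ i * x⁻¹ * (x * x) * y ^ i := by group
    _ = z := by
      rw [D.zpow_x, D.sq, ← D.zdef, ← zpow_natCast, ← zpow_add, ← zpow_add]
      congr 1
      ring

theorem out_of_not {s : F} (hs : s ∈ S) (h : s ∉ zpowers y) : ∃ i : ℤ, s = x * y ^ i := by
  obtain ⟨i, hi⟩ := mem_zpowers_iff.1 ((D.cases s hs).resolve_left h)
  exact ⟨i, by rw [hi]; group⟩

theorem out_not (i : ℤ) : x * y ^ i ∉ zpowers y := fun h =>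
  D.not_mem (by simpa using mul_mem h (zpow_mem (mem_zpowers y) (-i)))

theorem orderOf_z : orderOf z = 2 := by
  rw [← D.zdef, orderOf_pow_of_dvd (pow_ne_zero _ two_ne_zero) (D.ord ▸ pow_dvd_pow 2 (by omega)), D.ord,
    Nat.pow_div (by omega) two_pos, show m + 2 - (m + 1) = 1 by omega, pow_one]

theorem orderOf_out (i : ℤ) : orderOf (x * y ^ i) = 4 := by
  haveI : Fact (Nat.Prime 2) := ⟨Nat.prime_two⟩
  have h := D.sq_out i
  refine orderOf_eq_prime_pow (p := 2) (n := 1) ?_ ?_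
  · rw [pow_one, pow_two, h]
    exact ne_one_of_order_two D.orderOf_z
  · rw [show (2 : ℕ) ^ (1 + 1) = 2 * 2 by norm_num, pow_mul, pow_two (x * y ^ i), h, pow_two,
      sq_of_order_two D.orderOf_z]

theorem z_mem : z ∈ S := D.zdef ▸ pow_mem D.ymem _

theorem z_mem_zpowers : z ∈ zpowers y := D.zdef ▸ pow_mem (mem_zpowers y) _

theorem eq_z {s : F} (hs : s ∈ S) (h2 : orderOf s = 2) : s = z := by
  by_cases h : s ∈ zpowers y
  · exact eq_of_order_two_of_cyclic (Subgroup.isCyclic_zpowers y) h D.z_mem_zpowers h2 D.orderOf_z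
  · obtain ⟨i, rfl⟩ := D.out_of_not hs h
    rw [D.orderOf_out] at h2
    omega

theorem z_comm {s : F} (hs : s ∈ S) : Commute s z := by
  have hy : Commute y z := D.zdef ▸ (Commute.refl y).pow_right _
  have hx : Commute x z := D.sq ▸ (Commute.refl x).mul_right (Commute.refl x)
  rcases D.cases s hs with h | h
  · obtain ⟨i, rfl⟩ := mem_zpowers_iff.1 h
    exact hy.zpow_left i
  · obtain ⟨i, hi⟩ := mem_zpowers_iff.1 h
    rw [show s = x * y ^ i by rw [hi]; group]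
    exact hx.mul_left (hy.zpow_left i)

/-- agreement on the generators suffices -/
theorem ext {t s : F} (hy : t * y * t⁻¹ = s * y * s⁻¹) (hx : t * x * t⁻¹ = s * x * s⁻¹) :
    ∀ a ∈ S, t * a * t⁻¹ = s * a * s⁻¹ := by
  have hC : ∀ i : ℤ, t * y ^ i * t⁻¹ = s * y ^ i * s⁻¹ := fun i => by rw [← conj_zpow, hy, conj_zpow]
  intro a ha
  rcases D.cases a ha with h | h
  · obtain ⟨i, rfl⟩ := mem_zpowers_iff.1 h
    exact hC i
  · obtain ⟨i, hi⟩ := mem_zpowers_iff.1 h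
    rw [show a = x * y ^ i by rw [hi]; group,
      show t * (x * y ^ i) * t⁻¹ = t * x * t⁻¹ * (t * y ^ i * t⁻¹) by group, hx, hC]
    group

theorem inner_pos {w : F} (hy : w * y * w⁻¹ = y) {a : ℤ} (hx : w * x * w⁻¹ = x * y ^ a) (ha : Even a) :
    w ∈ innerSub S := by
  obtain ⟨j, rfl⟩ := ha
  refine ⟨y ^ (-j), zpow_mem D.ymem _, D.ext ?_ ?_⟩
  · rw [hy, ((Commute.refl y).zpow_left (-j)).eq, mul_inv_cancel_right]
  · rw [hx, D.conj_y]; congr 2; ring

theorem inner_neg {w : F} (hy : w * y * w⁻¹ = y⁻¹) {a : ℤ} (hx : w * x * w⁻¹ = x * y ^ a) (ha : Even a) :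
    w ∈ innerSub S := by
  obtain ⟨j, rfl⟩ := ha
  refine ⟨x * y ^ j, mul_mem D.xmem (zpow_mem D.ymem _), D.ext ?_ ?_⟩
  · rw [hy, show x * y ^ j * y * (x * y ^ j)⁻¹ = x * (y ^ j * y * (y ^ j)⁻¹) * x⁻¹ by group,
      ((Commute.refl y).zpow_left j).eq, mul_inv_cancel_right, D.conj]
  · rw [hx, show x * y ^ j * x * (x * y ^ j)⁻¹ = x * (y ^ j * x * (y ^ j)⁻¹) * x⁻¹ by group, D.conj_y,
      show x * (x * y ^ (-2 * j)) * x⁻¹ = x * (x * y ^ (-2 * j) * x⁻¹) by group, D.zpow_x]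
    congr 2; ring

/-- the action of an element normalising `S` and its cyclic part -/
theorem action {p : F} (hS : ∀ a ∈ S, p * a * p⁻¹ ∈ S) (hC : p * y * p⁻¹ ∈ zpowers y) :
    ∃ k a : ℤ, Odd k ∧ p * y * p⁻¹ = y ^ k ∧ p * x * p⁻¹ = x * y ^ a := by
  obtain ⟨k, hk⟩ := mem_zpowers_iff.1 hC
  have hle : zpowers y ≤ (zpowers y).comap (MulAut.conj p).toMonoidHom := zpowers_le.2 hC
  have hout : p * x * p⁻¹ ∉ zpowers y := by
    intro h
    have heq : (zpowers y).map (MulAut.conj p).toMonoidHom = zpowers y :=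
      eq_of_le_of_card_ge (map_le_iff_le_comap.2 hle) (card_map_of_injective (MulAut.conj p).injective).ge
    rw [← heq] at h
    obtain ⟨w, hw, he⟩ := h
    exact D.not_mem ((MulAut.conj p).injective he ▸ hw)
  obtain ⟨a, ha⟩ := D.out_of_not (hS x D.xmem) hout
  refine ⟨k, a, ?_, hk.symm, ha⟩
  rw [← Int.not_even_iff_odd]
  rintro ⟨j, rfl⟩
  have h1 : (p * y * p⁻¹) ^ 2 ^ (m + 1) = 1 := by
    rw [← hk, ← zpow_natCast, ← zpow_mul, show (j + j) * ((2 ^ (m + 1) : ℕ) : ℤ) = ((2 ^ (m + 2) : ℕ) : ℤ) * j by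
      push_cast; ring, zpow_mul, zpow_natCast, ← D.ord, pow_orderOf_eq_one, one_zpow]
  rw [conj_pow, conj_eq_one_iff, D.zdef] at h1
  exact ne_one_of_order_two D.orderOf_z h1

theorem action_mul {p q : F} {k a l b : ℤ} (hk : p * y * p⁻¹ = y ^ k) (ha : p * x * p⁻¹ = x * y ^ a)
    (hl : q * y * q⁻¹ = y ^ l) (hb : q * x * q⁻¹ = x * y ^ b) :
    p * q * y * (p * q)⁻¹ = y ^ (k * l) ∧ p * q * x * (p * q)⁻¹ = x * y ^ (a + k * b) := by
  have hp : ∀ i : ℤ, p * y ^ i * p⁻¹ = y ^ (k * i) := fun i => by rw [← conj_zpow, hk, zpow_mul]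
  constructor
  · rw [show p * q * y * (p * q)⁻¹ = p * (q * y * q⁻¹) * p⁻¹ by group, hl, hp]
  · rw [show p * q * x * (p * q)⁻¹ = p * (q * x * q⁻¹) * p⁻¹ by group, hb,
      show p * (x * y ^ b) * p⁻¹ = p * x * p⁻¹ * (p * y ^ b * p⁻¹) by group, ha, hp, zpow_add]
    group

/-- a commutator of elements normalising `S` and its cyclic part acts as an element of `S` -/
theorem comm_inner {p q : F} (hp : ∀ a ∈ S, p * a * p⁻¹ ∈ S) (hpC : p * y * p⁻¹ ∈ zpowers y)
    (hq : ∀ a ∈ S, q * a * q⁻¹ ∈ S) (hqC : q * y * q⁻¹ ∈ zpowers y) :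
    p * q * p⁻¹ * q⁻¹ ∈ innerSub S := by
  obtain ⟨k, a, hk', hk, ha⟩ := D.action hp hpC
  obtain ⟨l, b, hl', hl, hb⟩ := D.action hq hqC
  obtain ⟨h1, h2⟩ := D.action_mul hk ha hl hb
  obtain ⟨h3, h4⟩ := D.action_mul hl hb hk ha
  set w := p * q * p⁻¹ * q⁻¹ with hw
  have hwy : w * y ^ (l * k) * w⁻¹ = y ^ (k * l) := by
    rw [← h3, ← h1, hw]; group
  have hco : IsCoprime ((l * k : ℤ)) ((2 : ℤ) ^ (m + 2)) := by
    refine IsCoprime.pow_right ?_
    obtain ⟨j, hj⟩ := hl'.mul hk'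
    exact ⟨1, -j, by rw [hj]; ring⟩
  obtain ⟨u, v, huv⟩ := hco
  have hgen : (y ^ (l * k)) ^ u = y := by
    rw [← zpow_mul]
    conv_rhs => rw [← zpow_one y, ← huv]
    rw [zpow_add, mul_comm v, zpow_mul y ((2 : ℤ) ^ (m + 2)), show ((2 : ℤ) ^ (m + 2)) = ((2 ^ (m + 2) : ℕ) : ℤ) by
      push_cast; rfl, zpow_natCast, ← D.ord, pow_orderOf_eq_one, one_zpow, mul_one, mul_comm]
  have hwy1 : w * y * w⁻¹ = y := by
    conv_lhs => rw [← hgen, ← conj_zpow, hwy, mul_comm k, hgen]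
  have hwz : ∀ i : ℤ, w * y ^ i * w⁻¹ = y ^ i := fun i => by rw [← conj_zpow, hwy1]
  have hwx : w * (x * y ^ (b + l * a)) * w⁻¹ = x * y ^ (a + k * b) := by
    rw [← h4, ← h2, hw]; group
  rw [show w * (x * y ^ (b + l * a)) * w⁻¹ = w * x * w⁻¹ * (w * y ^ (b + l * a) * w⁻¹) by group, hwz] at hwx
  have hwx' : w * x * w⁻¹ = x * y ^ (a + k * b - (b + l * a)) := by
    rw [zpow_sub, ← mul_assoc, eq_mul_inv_iff_mul_eq]
    exact hwx
  refine D.inner_pos hwy1 hwx' ?_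
  rw [show a + k * b - (b + l * a) = a * (1 - l) + b * (k - 1) by ring]
  exact ((odd_one.sub_odd hl').mul_left a).add ((hk'.sub_odd odd_one).mul_left b)

/-- for a quaternion group of order eight, two outer elements differ by an inner one -/
theorem inner_of_not_inner (hm : m = 0) {p q : F} (hp : ∀ a ∈ S, p * a * p⁻¹ ∈ S)
    (hpC : p * y * p⁻¹ ∈ zpowers y) (hq : ∀ a ∈ S, q * a * q⁻¹ ∈ S) (hqC : q * y * q⁻¹ ∈ zpowers y)
    (hp' : p ∉ innerSub S) (hq' : q ∉ innerSub S) : p⁻¹ * q ∈ innerSub S := by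
  subst hm
  have hord : (orderOf y : ℤ) = 4 := by rw [D.ord]; norm_num
  have key : ∀ {w : F} {k a : ℤ}, Odd k → w * y * w⁻¹ = y ^ k → w * x * w⁻¹ = x * y ^ a → Even a →
      w ∈ innerSub S := fun {w k a} hk hy hx ha => by
    have h := zpow_mod_orderOf y k
    rw [hord] at h
    rcases (show k % 4 = 1 ∨ k % 4 = 3 by obtain ⟨j, rfl⟩ := hk; omega) with e | e <;> rw [e] at h
    · rw [zpow_one] at h
      exact D.inner_pos (hy.trans h.symm) hx ha
    · refine D.inner_neg (hy.trans (h.symm.trans ?_)) hx ha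
      rw [eq_inv_iff_mul_eq_one, ← zpow_add_one, show ((3 : ℤ) + 1) = (orderOf y : ℤ) by rw [hord]; norm_num,
        zpow_natCast, pow_orderOf_eq_one]
  have hpN : ∀ a ∈ S, p⁻¹ * a * p⁻¹⁻¹ ∈ S := fun a ha => by
    obtain ⟨w, hw, he⟩ := ((eq_of_le_of_card_ge (show S.map (MulAut.conj p).toMonoidHom ≤ S by
      rintro _ ⟨w, hw, rfl⟩; exact hp w hw) (card_map_of_injective (MulAut.conj p).injective).ge).symm ▸ ha :
        a ∈ S.map (MulAut.conj p).toMonoidHom)
    rw [← he]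
    simpa [mul_assoc] using hw
  have hpiC : p⁻¹ * y * p⁻¹⁻¹ ∈ zpowers y := by
    have hle : (zpowers y).map (MulAut.conj p).toMonoidHom ≤ zpowers y :=
      map_le_iff_le_comap.2 (zpowers_le.2 hpC)
    obtain ⟨w, hw, he⟩ := ((eq_of_le_of_card_ge hle (card_map_of_injective (MulAut.conj p).injective).ge).symm ▸
      mem_zpowers y : y ∈ (zpowers y).map (MulAut.conj p).toMonoidHom)
    rw [show p⁻¹ * y * p⁻¹⁻¹ = w by rw [← he]; simp [mul_assoc]]
    exact hw
  obtain ⟨k, a, hk', hk, ha⟩ := D.action hpN hpiC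
  obtain ⟨l, b, hl', hl, hb⟩ := D.action hq hqC
  obtain ⟨h1, h2⟩ := D.action_mul hk ha hl hb
  refine key (hk'.mul hl') h1 h2 ?_
  have hao : Odd a := Int.not_even_iff_odd.1 fun h => hp' (inv_mem_iff.1 (key hk' hk ha h))
  have hbo : Odd b := Int.not_even_iff_odd.1 fun h => hq' (key hl' hl hb h)
  exact hao.add_odd (hk'.mul hbo)

/-- the elements normalising `S` normalise its cyclic part when `|S| ≥ 16` -/
theorem conj_mem_zpowers (hm : m ≠ 0) {g : F} (hg : ∀ a ∈ S, g * a * g⁻¹ ∈ S) :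
    g * y * g⁻¹ ∈ zpowers y := by
  by_contra h
  obtain ⟨i, hi⟩ := D.out_of_not (hg y D.ymem) h
  have h4 : orderOf (g * y * g⁻¹) = 4 := hi ▸ D.orderOf_out i
  rw [Cfsg.Lib.Isolated.orderOf_conj', D.ord] at h4
  have : 2 ^ 3 ≤ 2 ^ (m + 2) := Nat.pow_le_pow_right two_pos (by omega)
  omega

/-- generators with the cyclic part normalised by a 2-group `T` -/
theorem exists_fixed {T : Subgroup F} (hT : IsPGroup 2 T) (hST : S ≤ T)
    (hn : ∀ t ∈ T, ∀ a ∈ S, t * a * t⁻¹ ∈ S) :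
    ∃ y' x' : F, QData S m y' x' z ∧ ∀ t ∈ T, t * y' * t⁻¹ ∈ zpowers y' := by
  haveI : Fact (Nat.Prime 2) := ⟨Nat.prime_two⟩
  by_cases hm : m = 0
  swap
  · exact ⟨y, x, D, fun t ht => D.conj_mem_zpowers hm (hn t ht)⟩
  subst hm
  have hzT : z ∈ T := hST D.z_mem
  have hzc : ∀ t ∈ T, t * z * t⁻¹ = z := fun t ht =>
    D.eq_z (hn t ht z D.z_mem) (by rw [Cfsg.Lib.Isolated.orderOf_conj', D.orderOf_z])
  set Z := (zpowers z).subgroupOf T with hZ
  haveI hZn : Z.Normal := ⟨fun w hw t => by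
    obtain ⟨j, hj⟩ := mem_zpowers_iff.1 (mem_subgroupOf.1 hw)
    refine mem_subgroupOf.2 ?_
    show (t : F) * (w : F) * (t : F)⁻¹ ∈ zpowers z
    rw [← hj, ← conj_zpow, hzc t t.2]
    exact zpow_mem (mem_zpowers z) j⟩
  set π := QuotientGroup.mk' Z with hπ
  haveI hSn : (S.subgroupOf T).Normal := ⟨fun w hw t => mem_subgroupOf.2 (hn t t.2 _ (mem_subgroupOf.1 hw))⟩
  haveI : ((S.subgroupOf T).map π).Normal := hSn.map π (QuotientGroup.mk'_surjective Z)
  have hne : (S.subgroupOf T).map π ≠ ⊥ := fun h => by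
    have h1 : π ⟨y, hST D.ymem⟩ = 1 := mem_bot.1 (h ▸ mem_map_of_mem π (mem_subgroupOf.2 D.ymem))
    have h2 : y ∈ zpowers z := mem_subgroupOf.1 ((QuotientGroup.eq_one_iff _).1 h1)
    have h3 := Nat.le_of_dvd (by rw [D.orderOf_z]; norm_num) (orderOf_dvd_of_mem_zpowers h2)
    rw [D.ord, D.orderOf_z] at h3
    norm_num at h3
  obtain ⟨q, hq, hqc, hqo⟩ := Cfsg.Lib.PGroups.exists_mem_center_of_normal_ne_bot (hT.to_quotient Z) hne
  obtain ⟨w, hw, rfl⟩ := hq
  have hwS : (w : F) ∈ S := mem_subgroupOf.1 hw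
  have hwz : (w : F) ∉ zpowers z := fun h => by
    rw [show π w = 1 from (QuotientGroup.eq_one_iff w).2 (mem_subgroupOf.2 h), orderOf_one] at hqo
    omega
  have hfix : ∀ t ∈ T, (w : F)⁻¹ * (t * (w : F) * t⁻¹) ∈ zpowers z := fun t ht => by
    have h := mem_center_iff.1 hqc (π ⟨t, ht⟩)
    have h2 : π (w⁻¹ * (⟨t, ht⟩ * w * ⟨t, ht⟩⁻¹)) = 1 := by
      rw [map_mul, map_mul, map_mul, map_inv, map_inv, h, mul_inv_cancel_right, inv_mul_cancel]
    exact mem_subgroupOf.1 ((QuotientGroup.eq_one_iff _).1 h2)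
  have hfix' : ∀ (v : F), z ∈ zpowers v → (w : F) ∈ zpowers v → ∀ t ∈ T, t * (w : F) * t⁻¹ ∈ zpowers v :=
    fun v hzv hwv t ht => by
      rw [show t * (w : F) * t⁻¹ = (w : F) * ((w : F)⁻¹ * (t * (w : F) * t⁻¹)) by group]
      exact mul_mem hwv (zpowers_le.2 hzv (hfix t ht))
  by_cases hwy : (w : F) ∈ zpowers y
  · refine ⟨y, x, D, fun t ht => ?_⟩
    obtain ⟨j, hj⟩ := mem_zpowers_iff.1 hwy
    have hjodd : Odd j := by
      rw [← Int.not_even_iff_odd]
      rintro ⟨i, rfl⟩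
      refine hwz (mem_zpowers_iff.2 ⟨i, ?_⟩)
      rw [← hj, ← D.zdef, ← zpow_natCast, ← zpow_mul]
      congr 1; push_cast; ring
    have hco : IsCoprime (j : ℤ) ((4 : ℤ)) := by
      obtain ⟨i, rfl⟩ := hjodd
      exact ⟨2 * i + 1, -(i * i + i), by ring⟩
    obtain ⟨u, v, huv⟩ := hco
    have hyw : y = (w : F) ^ u := by
      rw [← hj, ← zpow_mul]
      conv_lhs => rw [← zpow_one y, ← huv]
      rw [zpow_add, mul_comm u, mul_comm v, zpow_mul y (4 : ℤ), show (4 : ℤ) = ((orderOf y : ℕ) : ℤ) by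
        rw [D.ord]; norm_num, zpow_natCast, pow_orderOf_eq_one, one_zpow, mul_one]
    rw [show t * y * t⁻¹ = (t * (w : F) * t⁻¹) ^ u by rw [conj_zpow, ← hyw]]
    exact zpow_mem (hfix' y D.z_mem_zpowers hwy t ht) u
  · obtain ⟨i, hi⟩ := D.out_of_not hwS hwy
    have hw2 : (w : F) * (w : F) = z := hi ▸ D.sq_out i
    have hzw : z ∈ zpowers (w : F) := hw2 ▸ mul_mem (mem_zpowers _) (mem_zpowers _)
    have hconj : y * (w : F) * y⁻¹ = (w : F)⁻¹ := by
      rw [eq_inv_iff_mul_eq_one, hi]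
      have h1 : y * (x * y ^ i) * y⁻¹ = x * y ^ (i - 2) := by
        have := D.conj_y 1
        rw [zpow_one] at this
        calc y * (x * y ^ i) * y⁻¹ = y * x * y⁻¹ * (y ^ i) := by group
          _ = x * y ^ (i - 2) := by rw [this, mul_assoc, ← zpow_add]; congr 2; ring
      have h2 : x * y ^ (i - 2) * (x * y ^ i) = y ^ (2 : ℤ) * z :=
        calc x * y ^ (i - 2) * (x * y ^ i) = x * y ^ (i - 2) * x⁻¹ * (x * x) * y ^ i := by group
          _ = y ^ (2 : ℤ) * z := by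
            rw [D.zpow_x, D.sq, ← D.zdef, ← zpow_natCast, ← zpow_add, ← zpow_add, ← zpow_add]
            congr 1; ring
      rw [h1, h2, ← D.zdef, ← zpow_natCast, ← zpow_add, show (2 : ℤ) + ((2 ^ (0 + 1) : ℕ) : ℤ) =
        ((orderOf y : ℕ) : ℤ) by rw [D.ord]; norm_num, zpow_natCast, pow_orderOf_eq_one]
    have hyw : y ∉ zpowers (w : F) := fun h => by
      obtain ⟨j, hj⟩ := mem_zpowers_iff.1 h
      rw [← hj, ((Commute.refl (w : F)).zpow_left j).eq, mul_inv_cancel_right, eq_inv_iff_mul_eq_one,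
        hw2] at hconj
      exact ne_one_of_order_two D.orderOf_z hconj
    refine ⟨w, y, ⟨?_, hconj, ?_, ?_, hwS, D.ymem, hyw, fun s hs => ?_⟩,
      hfix' w hzw (mem_zpowers _)⟩
    · rw [hi, D.orderOf_out]; norm_num
    · rw [← D.zdef]; norm_num [pow_two]
    · rw [← hw2]; norm_num [pow_two]
    · have hev : ∀ j : ℤ, Even j → y ^ j ∈ zpowers (w : F) := fun j hj => by
        obtain ⟨l, rfl⟩ := hj
        have : y ^ (l + l) = z ^ l := by
          rw [← D.zdef, ← zpow_natCast, ← zpow_mul]; congr 1; push_cast; ring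
        rw [this]
        exact zpow_mem hzw l
      rcases D.cases s hs with h | h <;> obtain ⟨j, hj⟩ := mem_zpowers_iff.1 h
      · rcases Int.even_or_odd j with he | ho
        · exact Or.inl (hj ▸ hev j he)
        · refine Or.inr ?_
          rw [← hj, ← zpow_neg_one, ← zpow_add]
          exact hev _ (odd_one.neg.add_odd ho)
      · have hs' : s = (w : F) * y ^ (j - i) := by
          rw [hi, mul_assoc, ← zpow_add, show i + (j - i) = j by ring, hj]; group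
        rcases Int.even_or_odd (j - i) with he | ho
        · exact Or.inl (hs' ▸ mul_mem (mem_zpowers _) (hev _ he))
        · refine Or.inr ?_
          rw [show y⁻¹ * s = y⁻¹ * (w : F) * y * (y ^ (-1 : ℤ) * y ^ (j - i)) by rw [hs']; group, ← zpow_add]
          refine mul_mem ?_ (hev _ (odd_one.neg.add_odd ho))
          have h1 : y⁻¹ * (w : F) * y = (w : F)⁻¹ := by
            calc y⁻¹ * (w : F) * y = y⁻¹ * ((w : F)⁻¹)⁻¹ * y := by rw [inv_inv]
              _ = y⁻¹ * (y * (w : F) * y⁻¹)⁻¹ * y := by rw [hconj]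
              _ = (w : F)⁻¹ := by group
          rw [h1]
          exact inv_mem (mem_zpowers _)

end QData

end Cfsg.Lib.ShutClosed
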