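/-
A strongly closed cyclic or generalised quaternion subgroup whose normal closure is the whole group, with
trivial odd core and central involution, is a Sylow 2-subgroup.
-/
import Cfsg.Agent.TwoFusion.ShutClosed.Quaternion
import Cfsg.Agent.TwoFusion.Product.Main
import Cfsg.Agent.Fusion.GroupSystem
import Cfsg.Agent.Fusion.NormalCriteria
import Mathlib.GroupTheory.Focal

set_option autoImplicit false
set_option linter.style.haveILetI false
set_option linter.unusedSectionVars false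

namespace Cfsg.Lib.ShutClosed

open Subgroup Cfsg.Lib.InvolCalc Cfsg.Lib.Isolated
open scoped commutatorElement

universe u

variable {F : Type u} [Group F] [Finite F] {T : Sylow 2 F} {S : Subgroup F} {m : ℕ} {y x z : F}

theorem conj_mem_of_closed (hS : Cfsg.IsStronglyClosed S (T : Subgroup F)) {t a : F} (ht : t ∈ (T : Subgroup F))
    (ha : a ∈ S) : t * a * t⁻¹ ∈ S :=
  hS.2 a ha t (mul_mem (mul_mem ht (hS.1 ha)) (inv_mem ht))

/-- an element fixed by `g` by which `g` of odd order translates is trivial -/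
theorem eq_one_of_translate {g q d : F} (hg : Odd (orderOf g)) {k : ℕ} (hd : d ^ 2 ^ k = 1)
    (hc : g * d * g⁻¹ = d) (h : g * q * g⁻¹ = q * d) : d = 1 := by
  have hiter : ∀ i : ℕ, g ^ i * q * (g ^ i)⁻¹ = q * d ^ i := by
    intro i
    induction i with
    | zero => simp
    | succ i ih =>
      calc g ^ (i + 1) * q * (g ^ (i + 1))⁻¹ = g * (g ^ i * q * (g ^ i)⁻¹) * g⁻¹ := by rw [pow_succ']; group
        _ = g * q * g⁻¹ * (g * d * g⁻¹) ^ i := by rw [ih, conj_pow]; group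
        _ = q * d ^ (i + 1) := by rw [h, hc, pow_succ', mul_assoc]
  have h1 := hiter (orderOf g)
  rw [pow_orderOf_eq_one, one_mul, inv_one, mul_one, left_eq_mul] at h1
  exact orderOf_eq_one_iff.1 (Nat.eq_one_of_dvd_coprimes (Nat.Coprime.pow_right k
    (Nat.coprime_two_right.2 hg)) (orderOf_dvd_of_pow_eq_one h1) (orderOf_dvd_of_pow_eq_one hd))

/-- `T` lies in a subgroup containing `S` and the fusion quotients when `S` generates as a normal subgroup -/
theorem sylow_le_of_fusion (hgen : normalClosure (S : Set F) = ⊤) (hST : S ≤ (T : Subgroup F)) {M : Subgroup F}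
    (hSM : S ≤ M) (h : ∀ v ∈ (T : Subgroup F), ∀ g : F, g * v * g⁻¹ ∈ (T : Subgroup F) →
      v⁻¹ * (g * v * g⁻¹) ∈ M) : (T : Subgroup F) ≤ M := by
  haveI := Fact.mk Nat.prime_two
  haveI : (_root_.commutator F ⊔ S).Normal := ⟨fun w hw g => by
    rw [show g * w * g⁻¹ = ⁅g, w⁆ * w by rw [commutatorElement_def]; group]
    exact mul_mem (mem_sup_left (commutator_mem_commutator (mem_top g) (mem_top w))) hw⟩
  have htop : _root_.commutator F ⊔ S = ⊤ := top_le_iff.1 (hgen ▸ normalClosure_le_normal fun s hs => mem_sup_right hs)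
  intro t ht
  have ht' : t ∈ ((_root_.commutator F ⊔ S : Subgroup F) : Set F) := by rw [htop]; trivial
  rw [normal_mul] at ht'
  obtain ⟨k, hk, s, hs, rfl⟩ := ht'
  have hkT : k ∈ (T : Subgroup F) := by simpa using mul_mem ht (inv_mem (hST hs))
  have e := Subgroup.commutator_inf_eq_focalSubgroup T
  have hle : Subgroup.focalSubgroup (T : Subgroup F) ≤ M := by
    rw [Subgroup.focalSubgroup_def, Subgroup.closure_le]
    rintro _ ⟨hmem, v, hv, g, rfl⟩
    have hg : g * v⁻¹ * g⁻¹ ∈ (T : Subgroup F) := by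
      have := mul_mem (inv_mem hv) hmem
      rwa [commutatorElement_def, show v⁻¹ * (v * g * v⁻¹ * g⁻¹) = g * v⁻¹ * g⁻¹ by group] at this
    have := h _ (inv_mem hv) g hg
    rwa [inv_inv, show v * (g * v⁻¹ * g⁻¹) = ⁅v, g⁆ by rw [commutatorElement_def]; group] at this
  exact mul_mem (hle (e ▸ mem_inf.2 ⟨hk, hkT⟩)) (hSM hs)

/-- the elements moving `P` inside `S` only -/
def moveSub (S P : Subgroup F) : Subgroup F where
  carrier := {g | g ∈ normalizer (P : Set F) ∧ ∀ p ∈ P, p⁻¹ * (g * p * g⁻¹) ∈ S}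
  one_mem' := ⟨one_mem _, fun p _ => by simp⟩
  mul_mem' := by
    rintro g h ⟨hg, hg'⟩ ⟨hh, hh'⟩
    refine ⟨mul_mem hg hh, fun p hp => ?_⟩
    have h1 := hg' _ ((mem_normalizer_iff.1 hh p).1 hp)
    rw [show p⁻¹ * (g * h * p * (g * h)⁻¹) = p⁻¹ * (h * p * h⁻¹) * ((h * p * h⁻¹)⁻¹ * (g * (h * p * h⁻¹) * g⁻¹)) by group]
    exact mul_mem (hh' p hp) h1
  inv_mem' := by
    rintro g ⟨hg, hg'⟩
    refine ⟨inv_mem hg, fun p hp => ?_⟩
    have hp' : g⁻¹ * p * g ∈ P := by simpa using (mem_normalizer_iff.1 (inv_mem hg) p).1 hp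
    have h1 := inv_mem (hg' _ hp')
    rw [show ((g⁻¹ * p * g)⁻¹ * (g * (g⁻¹ * p * g) * g⁻¹))⁻¹ = p⁻¹ * (g⁻¹ * p * g) by group] at h1
    rwa [inv_inv]

/-- the setting of the rank one case -/
structure One (T : Sylow 2 F) (S : Subgroup F) (m : ℕ) (y x z : F) : Prop where
  core : Cfsg.pPrimeCore 2 F = ⊥
  closed : Cfsg.IsStronglyClosed S (T : Subgroup F)
  data : QData S m y x z
  fix : ∀ t ∈ (T : Subgroup F), t * y * t⁻¹ ∈ zpowers y
  central : z ∈ center F

namespace One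

variable (W : One T S m y x z)
include W

theorem mem_zc {s : F} (hs : s ∈ zpowers y) (h4 : s ^ 4 = 1) : s ∈ zpowers (y ^ 2 ^ m) := by
  obtain ⟨j, rfl⟩ := mem_zpowers_iff.1 hs
  rw [← zpow_natCast, ← zpow_mul, ← orderOf_dvd_iff_zpow_eq_one, W.data.ord] at h4
  obtain ⟨i, hi⟩ := h4
  refine mem_zpowers_iff.2 ⟨i, ?_⟩
  rw [← zpow_natCast, ← zpow_mul]
  congr 1
  push_cast at hi ⊢
  rw [pow_add] at hi
  linarith

theorem orderOf_c : orderOf (y ^ 2 ^ m) = 4 := by
  rw [orderOf_pow_of_dvd (pow_ne_zero _ two_ne_zero) (W.data.ord ▸ pow_dvd_pow 2 (by omega)), W.data.ord,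
    Nat.pow_div (by omega) two_pos, show m + 2 - m = 2 by omega]
  norm_num

theorem c_sq : y ^ 2 ^ m * y ^ 2 ^ m = z := by
  rw [← pow_add, ← two_mul, ← pow_succ', W.data.zdef]

/-- only the cyclic part centralises its subgroup of order four -/
theorem mem_of_comm {s : F} (hs : s ∈ S) (hc : Commute s (y ^ 2 ^ m)) : s ∈ zpowers y := by
  by_contra h
  obtain ⟨i, rfl⟩ := W.data.out_of_not hs h
  have h1 : x * y ^ i * y ^ 2 ^ m * (x * y ^ i)⁻¹ = (y ^ 2 ^ m)⁻¹ := by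
    rw [show x * y ^ i * y ^ 2 ^ m * (x * y ^ i)⁻¹ = x * (y ^ i * y ^ 2 ^ m * (y ^ i)⁻¹) * x⁻¹ by group,
      (((Commute.refl y).zpow_left i).pow_right (2 ^ m)).eq, mul_inv_cancel_right, ← conj_pow, W.data.conj,
      inv_pow]
  rw [hc.eq, mul_inv_cancel_right, eq_inv_iff_mul_eq_one, W.c_sq] at h1
  exact ne_one_of_order_two W.data.orderOf_z h1

theorem conj_zc {t : F} (ht : t * y * t⁻¹ ∈ zpowers y) : t * y ^ 2 ^ m * t⁻¹ ∈ zpowers (y ^ 2 ^ m) := by
  obtain ⟨k, hk⟩ := mem_zpowers_iff.1 ht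
  refine mem_zpowers_iff.2 ⟨k, ?_⟩
  rw [← conj_pow, ← hk, ← zpow_natCast, ← zpow_natCast, ← zpow_mul, ← zpow_mul, mul_comm]

theorem center_eq {s : F} (hs : s ∈ S) (hy : Commute s y) (hx : Commute s x) : s ∈ zpowers z := by
  have h := W.mem_of_comm hs (hy.pow_right _)
  obtain ⟨j, rfl⟩ := mem_zpowers_iff.1 h
  have h1 := W.data.zpow_x j
  rw [← hx.eq, mul_inv_cancel_right, zpow_neg, eq_inv_iff_mul_eq_one, ← zpow_add,
    ← orderOf_dvd_iff_zpow_eq_one, W.data.ord] at h1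
  obtain ⟨i, hi⟩ := h1
  refine mem_zpowers_iff.2 ⟨i, ?_⟩
  rw [← W.data.zdef, ← zpow_natCast, ← zpow_mul]
  congr 1
  push_cast at hi ⊢
  rw [show m + 2 = m + 1 + 1 by omega, pow_succ] at hi
  linarith

/-- fusion under the normaliser of the subgroup of order four -/
theorem fusion_local {g t : F} (hg : g ∈ normalizer (zpowers (y ^ 2 ^ m) : Set F))
    (ht : t ∈ (T : Subgroup F)) (hgt : g * t * g⁻¹ ∈ (T : Subgroup F)) :
    t⁻¹ * (g * t * g⁻¹) ∈ innerSub S := by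
  haveI : Fact (Nat.Prime 2) := ⟨Nat.prime_two⟩
  have hD := W.data
  set c := y ^ 2 ^ m with hc
  set Y := normalizer (zpowers c : Set F) with hY
  have hTY : (T : Subgroup F) ≤ Y := fun t ht => Cfsg.Lib.ZStarApps.mem_normalizer_of_maps fun a ha => by
    obtain ⟨j, rfl⟩ := mem_zpowers_iff.1 ha
    rw [← conj_zpow]
    exact zpow_mem (W.conj_zc (W.fix t ht)) j
  set TY : Sylow 2 Y := T.subtype hTY with hTYdef
  have hTYc : (TY : Subgroup Y) = (T : Subgroup F).subgroupOf Y := T.coe_subtype hTY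
  set O := Cfsg.pPrimeCore 2 Y with hO
  set π := QuotientGroup.mk' O with hπ
  have hinj : ∀ a : Y, (a : F) ∈ (T : Subgroup F) → π a = 1 → a = 1 := fun a ha ha1 => by
    obtain ⟨k, hk⟩ := T.2 ⟨a, ha⟩
    refine orderOf_eq_one_iff.1 (Nat.eq_one_of_dvd_coprimes (Nat.Coprime.pow_right k
      (Nat.coprime_two_right.2 Cfsg.Lib.ZStarApps.odd_card_pPrimeCore))
      (Subgroup.orderOf_dvd_natCard O ((QuotientGroup.eq_one_iff a).1 ha1)) ?_)
    rw [← Subgroup.orderOf_coe]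
    exact orderOf_dvd_of_pow_eq_one (congrArg Subtype.val hk)
  have hyT : y ∈ (T : Subgroup F) := W.closed.1 hD.ymem
  have hxT : x ∈ (T : Subgroup F) := W.closed.1 hD.xmem
  set yY : Y := ⟨y, hTY hyT⟩ with hyY
  set xY : Y := ⟨x, hTY hxT⟩ with hxY
  have hclo : Cfsg.IsStronglyClosed (zpowers yY) (TY : Subgroup Y) := by
    rw [hTYc]
    refine ⟨zpowers_le.2 (mem_subgroupOf.2 hyT), fun a ha h hh => ?_⟩
    obtain ⟨j, rfl⟩ := mem_zpowers_iff.1 ha
    have haC : ((yY ^ j : Y) : F) ∈ zpowers y := mem_zpowers_iff.2 ⟨j, by simp [hyY]⟩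
    have hS' := W.closed.2 _ (zpowers_le.2 hD.ymem haC) (h : F) (mem_subgroupOf.1 hh)
    have hcy : Commute ((yY ^ j : Y) : F) c := by
      rw [Subgroup.coe_zpow]
      exact ((Commute.refl y).zpow_left j).pow_right _
    have hcom : Commute ((h : F) * ((yY ^ j : Y) : F) * (h : F)⁻¹) c := by
      obtain ⟨i, hi⟩ := mem_zpowers_iff.1 ((mem_normalizer_iff.1 (inv_mem h.2) c).1 (mem_zpowers c))
      rw [inv_inv] at hi
      have := (hcy.zpow_right i).map (MulAut.conj (h : F)).toMonoidHom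
      simp only [MulEquiv.coe_toMonoidHom, MulAut.conj_apply, hi] at this
      rwa [show (h : F) * ((h : F)⁻¹ * c * (h : F)) * (h : F)⁻¹ = c by group] at this
    obtain ⟨l, hl⟩ := mem_zpowers_iff.1 (W.mem_of_comm hS' hcom)
    exact mem_zpowers_iff.2 ⟨l, Subtype.ext (by simpa [hyY] using hl)⟩
  set yb := π yY with hyb
  set xb := π xY with hxb
  have hordy : orderOf yb = 2 ^ (m + 2) := by
    rw [← hD.ord, ← Subgroup.orderOf_mk y (hTY hyT), hyb]
    refine orderOf_eq_orderOf_iff.2 fun n => ⟨fun h => ?_, fun h => by rw [← map_pow, hyY]; simp [h]⟩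
    rw [← map_pow] at h
    exact hinj _ (by rw [Subgroup.coe_pow]; exact pow_mem hyT n) h
  have hOq : Cfsg.pPrimeCore 2 (Y ⧸ O) = ⊥ := Cfsg.Lib.Coprime.pPrimeCore_quotient_eq_bot
  have hclo' : Cfsg.IsStronglyClosed (zpowers yb)
      ((TY.mapSurjective (QuotientGroup.mk'_surjective O) : Sylow 2 (Y ⧸ O)) : Subgroup (Y ⧸ O)) := by
    rw [Sylow.coe_mapSurjective, hyb, ← MonoidHom.map_zpowers]
    exact stronglyClosed_quotient TY hclo O
  haveI hCn : (zpowers yb).Normal := cyclic_normal hOq _ hclo' (Subgroup.isCyclic_zpowers yb)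
  set Sb := (S.subgroupOf Y).map π with hSb
  have hxnot : xb ∉ zpowers yb := fun h => by
    obtain ⟨j, hj⟩ := mem_zpowers_iff.1 h
    have h1 := hinj ((yY ^ j)⁻¹ * xY) (by
      simp only [Subgroup.coe_mul, Subgroup.coe_inv, Subgroup.coe_zpow, hyY, hxY]
      exact mul_mem (inv_mem (zpow_mem hyT j)) hxT) (by rw [map_mul, map_inv, map_zpow, hj, inv_mul_cancel])
    exact hD.not_mem (mem_zpowers_iff.2 ⟨j, by simpa [hyY, hxY] using congrArg Subtype.val (inv_mul_eq_one.1 h1)⟩)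
  have hcases : ∀ s ∈ Sb, s ∈ zpowers yb ∨ xb⁻¹ * s ∈ zpowers yb := by
    rintro _ ⟨s, hs, rfl⟩
    rcases hD.cases _ (mem_subgroupOf.1 hs) with h | h <;> obtain ⟨j, hj⟩ := mem_zpowers_iff.1 h
    · refine Or.inl (mem_zpowers_iff.2 ⟨j, ?_⟩)
      rw [hyb, ← map_zpow]
      exact congrArg π (Subtype.ext (by simpa [hyY] using hj))
    · refine Or.inr (mem_zpowers_iff.2 ⟨j, ?_⟩)
      rw [hyb, hxb, ← map_zpow, ← map_inv, ← map_mul]
      exact congrArg π (Subtype.ext (by simpa [hyY, hxY] using hj))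
  have hySb : yb ∈ Sb := mem_map_of_mem π (mem_subgroupOf.2 hD.ymem)
  have hxSb : xb ∈ Sb := mem_map_of_mem π (mem_subgroupOf.2 hD.xmem)
  have hsq : xb * xb = π ⟨z, hTY (W.closed.1 hD.z_mem)⟩ := by
    rw [hxb, ← map_mul]; exact congrArg π (Subtype.ext hD.sq)
  have hz' : yb ^ 2 ^ (m + 1) = π ⟨z, hTY (W.closed.1 hD.z_mem)⟩ := by
    rw [hyb, ← map_pow]; exact congrArg π (Subtype.ext (by simpa [hyY] using hD.zdef))
  have D' : QData Sb m yb xb (π ⟨z, hTY (W.closed.1 hD.z_mem)⟩) := by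
    refine ⟨hordy, ?_, hsq, hz', hySb, hxSb, hxnot, hcases⟩
    rw [hxb, hyb, ← map_inv, ← map_mul, ← map_mul, ← map_inv]
    exact congrArg π (Subtype.ext hD.conj)
  haveI hSn : Sb.Normal := normal_of_cyclic_step hOq (TY.mapSurjective (QuotientGroup.mk'_surjective O))
    (by
      rw [Sylow.coe_mapSurjective]
      exact stronglyClosed_quotient TY (by rw [hTYc]; exact closed_subgroupOf W.closed Y) O)
    hordy hySb hxSb hxnot (hsq ▸ hz' ▸ pow_mem (mem_zpowers yb) _) hcases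
  set p : Y := ⟨t, hTY ht⟩ with hp
  set q : Y := ⟨g, hg⟩ with hq
  obtain ⟨sb, hsb, he⟩ := D'.comm_inner (p := (π p)⁻¹) (q := π q) (fun a ha => hSn.conj_mem a ha _)
    (hCn.conj_mem _ (mem_zpowers _) _) (fun a ha => hSn.conj_mem a ha _) (hCn.conj_mem _ (mem_zpowers _) _)
  obtain ⟨s, hs, rfl⟩ := hsb
  set u := t⁻¹ * (g * t * g⁻¹) with hu
  have huT : u ∈ (T : Subgroup F) := mul_mem (inv_mem ht) hgt
  refine ⟨s, mem_subgroupOf.1 hs, fun a ha => ?_⟩
  have h := he (π ⟨a, hTY (W.closed.1 ha)⟩) (mem_map_of_mem π (mem_subgroupOf.2 ha))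
  have hu' : (π p)⁻¹ * π q * (π p)⁻¹⁻¹ * (π q)⁻¹ = π ⟨u, hTY huT⟩ := by
    rw [inv_inv, ← map_inv, ← map_inv, ← map_mul, ← map_mul, ← map_mul]
    refine congrArg π (Subtype.ext ?_)
    show t⁻¹ * g * t * g⁻¹ = u
    rw [hu]; group
  rw [hu', ← map_inv, ← map_inv, ← map_mul, ← map_mul, ← map_mul, ← map_mul] at h
  set w : Y := ⟨u, hTY huT⟩ * ⟨a, hTY (W.closed.1 ha)⟩ * ⟨u, hTY huT⟩⁻¹ with hw
  have h1 := hinj (w⁻¹ * (s * ⟨a, hTY (W.closed.1 ha)⟩ * s⁻¹)) (by
      simp only [hw, Subgroup.coe_mul, Subgroup.coe_inv]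
      exact mul_mem (inv_mem (mul_mem (mul_mem huT (W.closed.1 ha)) (inv_mem huT)))
        (W.closed.1 (mul_mem (mul_mem (mem_subgroupOf.1 hs) ha) (inv_mem (mem_subgroupOf.1 hs)))))
    (by rw [map_mul, map_inv, hw, h, inv_mul_cancel])
  exact congrArg Subtype.val (inv_mul_eq_one.1 h1)

theorem comm_T {p q : F} (hp : p ∈ (T : Subgroup F)) (hq : q ∈ (T : Subgroup F)) :
    p * q * p⁻¹ * q⁻¹ ∈ innerSub S :=
  W.data.comm_inner (fun _ ha => conj_mem_of_closed W.closed hp ha) (W.fix p hp)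
    (fun _ ha => conj_mem_of_closed W.closed hq ha) (W.fix q hq)

/-- fusion under the normaliser of `S` -/
theorem fusion_normalizer {g t : F} (hg : g ∈ normalizer (S : Set F))
    (ht : t ∈ (T : Subgroup F)) (hgt : g * t * g⁻¹ ∈ (T : Subgroup F)) :
    t⁻¹ * (g * t * g⁻¹) ∈ innerSub S := by
  by_cases hm : m = 0
  swap
  · refine W.fusion_local ?_ ht hgt
    refine Cfsg.Lib.ZStarApps.mem_normalizer_of_maps fun a ha => ?_
    obtain ⟨j, rfl⟩ := mem_zpowers_iff.1 ha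
    rw [← conj_zpow]
    exact zpow_mem (W.conj_zc (W.data.conj_mem_zpowers hm fun b hb => (mem_normalizer_iff.1 hg b).1 hb)) j
  by_cases h : t ∈ innerSub S
  · exact mul_mem (inv_mem h) (innerSub_conj hg h)
  · refine W.data.inner_of_not_inner hm (fun _ ha => conj_mem_of_closed W.closed ht ha) (W.fix t ht)
      (fun _ ha => conj_mem_of_closed W.closed hgt ha) (W.fix _ hgt) h fun h' => h ?_
    have := innerSub_conj (inv_mem hg) h'
    rwa [show g⁻¹ * (g * t * g⁻¹) * g⁻¹⁻¹ = t by group] at this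

theorem normalizer_inf {P : Subgroup F} (hP : P ≤ (T : Subgroup F)) {h a : F}
    (hh : h ∈ normalizer (P : Set F)) (ha : a ∈ P) (haS : a ∈ S) : h * a * h⁻¹ ∈ S :=
  W.closed.2 a haS h (hP ((mem_normalizer_iff.1 hh a).1 ha))

/-- the dichotomy at a radical centric subgroup -/
theorem site_cases {P : Subgroup F}
    (hc : (Cfsg.groupFusionSystem (T : Subgroup F)).IsCentric P)
    (hr : (Cfsg.groupFusionSystem (T : Subgroup F)).IsRadical 2 P) :
    S ≤ P ∨ (y ^ 2 ^ m ∈ P ∧ (∃ i : ℤ, x * y ^ i ∈ P) ∧ ∀ h ∈ normalizer (P : Set F),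
      ∃ v ∈ (moveSub S P), v * h ∈ normalizer (zpowers (y ^ 2 ^ m) : Set F)) := by
  haveI : Fact (Nat.Prime 2) := ⟨Nat.prime_two⟩
  have hPT : P ≤ (T : Subgroup F) := hc.1
  set c := y ^ 2 ^ m with hcdef
  by_cases hodd : ∀ g ∈ (moveSub S P), Odd (orderOf g) → ∀ p ∈ P, g * p * g⁻¹ = p
  · left
    refine Cfsg.Lib.Fusion.le_of_radical T.2 W.closed.1
      (fun t ht => Cfsg.Lib.ZStarApps.mem_normalizer_of_maps fun a ha => conj_mem_of_closed W.closed ht ha)
      hc hr (Cfsg.autInducedBy ((moveSub S P)) P) ?_ ?_ ?_ fun g hg hgn =>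
        Cfsg.Lib.Fusion.conjAut_mem_autInducedBy hgn ⟨hgn, fun p hp => ?_⟩
    · intro α hα β hβ
      rw [Cfsg.Lib.Fusion.autGroup_group hPT, Cfsg.Lib.Fusion.mem_autInducedBy] at hα
      obtain ⟨a, -, ea⟩ := hα
      obtain ⟨g, ⟨hgn, hgS⟩, eg⟩ := Cfsg.Lib.Fusion.mem_autInducedBy.1 hβ
      have han := Cfsg.Lib.Fusion.mem_normalizer_of_mem_autInducedBy ea
      refine Cfsg.Lib.Fusion.mem_autInducedBy.2 ⟨a * g * a⁻¹, ⟨mul_mem (mul_mem han hgn) (inv_mem han),
        fun p hp => ?_⟩, fun p => ?_⟩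
      · have hp' : a⁻¹ * p * a ∈ P := by simpa using (mem_normalizer_iff.1 (inv_mem han) p).1 hp
        have h1 := W.normalizer_inf hPT han
          (mul_mem (inv_mem hp') ((mem_normalizer_iff.1 hgn _).1 hp')) (hgS _ hp')
        rwa [show a * ((a⁻¹ * p * a)⁻¹ * (g * (a⁻¹ * p * a) * g⁻¹)) * a⁻¹ =
          p⁻¹ * (a * g * a⁻¹ * p * (a * g * a⁻¹)⁻¹) by group] at h1
      · have h2 : (((α⁻¹) p : P) : F) = a⁻¹ * (p : F) * a := by
          have := ea (α⁻¹ p)
          rw [show α (α⁻¹ p) = p from MulAut.apply_inv_self _ α p] at this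
          rw [this]; group
        show ((α (β (α⁻¹ p)) : P) : F) = _
        rw [ea, eg, h2]
        group
    · rw [Cfsg.Lib.Fusion.autGroup_group hPT]
      exact Cfsg.Lib.Fusion.autInducedBy_mono le_top
    · rintro ⟨α, hα⟩
      obtain ⟨g, hg, e⟩ := Cfsg.Lib.Fusion.mem_autInducedBy.1 hα
      obtain ⟨k, n, hn, hkn⟩ := Nat.exists_eq_two_pow_mul_odd (orderOf_pos g).ne'
      have hg' : g ^ 2 ^ k ∈ (moveSub S P) := pow_mem hg _
      have hord : Odd (orderOf (g ^ 2 ^ k)) := by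
        rw [orderOf_pow_of_dvd (pow_ne_zero _ two_ne_zero) (hkn ▸ Dvd.intro n rfl), hkn,
          Nat.mul_div_cancel_left _ (by positivity)]
        exact hn
      refine ⟨k, Subtype.ext (MulEquiv.ext fun p => Subtype.ext ?_)⟩
      have hpow : ∀ j : ℕ, (((α ^ j) p : P) : F) = g ^ j * p * (g ^ j)⁻¹ := by
        intro j
        induction j with
        | zero => simp
        | succ j ih =>
          rw [pow_succ', MulAut.mul_apply, e, ih, pow_succ']
          group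
      show (((α ^ 2 ^ k) p : P) : F) = ((1 : MulAut P) p : P)
      rw [hpow]
      exact hodd _ hg' hord p p.2
    · rw [show p⁻¹ * (g * p * g⁻¹) = p⁻¹ * g * p * g⁻¹ by group]
      exact mul_mem (by simpa using conj_mem_of_closed W.closed (inv_mem (hPT hp)) hg) (inv_mem hg)
  · push Not at hodd
    obtain ⟨g, hg, hgo, p₀, hp₀, hne⟩ := hodd
    obtain ⟨hgn, hgS⟩ := id hg
    have hD := W.data
    have hpow2 : ∀ a ∈ (T : Subgroup F), ∃ k, a ^ 2 ^ k = 1 := fun a ha => by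
      obtain ⟨k, hk⟩ := T.2 ⟨a, ha⟩
      exact ⟨k, congrArg Subtype.val hk⟩
    have himg : ∀ a ∈ P, g * a * g⁻¹ ∈ P := fun a ha => (mem_normalizer_iff.1 hgn a).1 ha
    -- some element of the cyclic part leaves it
    obtain ⟨d, hdP, hdC, hd⟩ : ∃ d ∈ P, d ∈ zpowers y ∧ g * d * g⁻¹ ∉ zpowers y := by
      by_contra hall
      push Not at hall
      have hfixC : ∀ d ∈ P, d ∈ zpowers y → g * d * g⁻¹ = d := by
        intro d hdP hdC
        haveI : IsCyclic (P ⊓ zpowers y : Subgroup F) :=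
          isCyclic_of_injective (Subgroup.inclusion (inf_le_right : P ⊓ zpowers y ≤ zpowers y))
            (Subgroup.inclusion_injective _)
        obtain ⟨⟨d₀, hd₀⟩, hgen⟩ := IsCyclic.exists_zpow_surjective (G := (P ⊓ zpowers y : Subgroup F))
        obtain ⟨k, hk⟩ := hpow2 d₀ (hPT (mem_inf.1 hd₀).1)
        obtain ⟨a, -, ha⟩ := (Nat.dvd_prime_pow Nat.prime_two).1 (orderOf_dvd_of_pow_eq_one hk)
        have hmem : g * d₀ * g⁻¹ ∈ zpowers d₀ := by
          obtain ⟨j, hj⟩ := hgen ⟨g * d₀ * g⁻¹, mem_inf.2 ⟨himg d₀ (mem_inf.1 hd₀).1,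
            hall d₀ (mem_inf.1 hd₀).1 (mem_inf.1 hd₀).2⟩⟩
          exact mem_zpowers_iff.2 ⟨j, congrArg Subtype.val hj⟩
        have hcm := commute_of_odd_of_cyclic ha hgo hmem
        obtain ⟨j, hj⟩ := hgen ⟨d, mem_inf.2 ⟨hdP, hdC⟩⟩
        rw [← show d₀ ^ j = d from congrArg Subtype.val hj, (hcm.zpow_right j).eq, mul_inv_cancel_right]
      have hfixS : ∀ a ∈ P, a ∈ S → g * a * g⁻¹ = a := by
        intro a haP haS
        by_cases haC : a ∈ zpowers y
        · exact hfixC a haP haC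
        set d := a⁻¹ * (g * a * g⁻¹) with hd
        have hout : g * a * g⁻¹ ∉ zpowers y := fun h => haC (by
          have h2 := hfixC _ (himg a haP) h
          rw [mul_left_cancel (mul_right_cancel h2)] at h
          exact h)
        have hdC : d ∈ zpowers y := by
          obtain ⟨i, hi⟩ := hD.out_of_not haS haC
          obtain ⟨j, hj⟩ := hD.out_of_not (W.normalizer_inf hPT hgn haP haS) hout
          rw [hd, hj, hi, show (x * y ^ i)⁻¹ * (x * y ^ j) = (y ^ i)⁻¹ * y ^ j by group]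
          exact mul_mem (inv_mem (zpow_mem (mem_zpowers y) i)) (zpow_mem (mem_zpowers y) j)
        have hdP : d ∈ P := mul_mem (inv_mem haP) (himg a haP)
        obtain ⟨k, hk⟩ := hpow2 d (hPT hdP)
        have := eq_one_of_translate hgo hk (hfixC d hdP hdC) (show g * a * g⁻¹ = a * d by rw [hd]; group)
        rw [hd, inv_mul_eq_one] at this
        exact this.symm
      refine hne ?_
      set d := p₀⁻¹ * (g * p₀ * g⁻¹) with hd
      have hdP : d ∈ P := mul_mem (inv_mem hp₀) (himg p₀ hp₀)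
      obtain ⟨k, hk⟩ := hpow2 d (hPT hdP)
      have := eq_one_of_translate hgo hk (hfixS d hdP (hgS p₀ hp₀)) (show g * p₀ * g⁻¹ = p₀ * d by rw [hd]; group)
      rw [hd, inv_mul_eq_one] at this
      exact this.symm
    have hSg : ∀ a ∈ P, a ∈ zpowers y → g * a * g⁻¹ ∈ S := fun a ha haC =>
      W.normalizer_inf hPT hgn ha (zpowers_le.2 hD.ymem haC)
    have hfour : ∀ a ∈ P, a ∈ zpowers y → g * a * g⁻¹ ∉ zpowers y → zpowers a = zpowers c := by
      intro a ha haC hout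
      obtain ⟨i, hi⟩ := hD.out_of_not (hSg a ha haC) hout
      have h4 : orderOf a = 4 := by rw [← orderOf_conj' g a, hi, hD.orderOf_out]
      have hle : zpowers a ≤ zpowers c := zpowers_le.2 (W.mem_zc haC (h4 ▸ pow_orderOf_eq_one a))
      exact eq_of_le_of_card_ge hle (by rw [Nat.card_zpowers, Nat.card_zpowers, h4, W.orderOf_c])
    have hcy : zpowers c ≤ zpowers y := zpowers_le.2 (pow_mem (mem_zpowers y) _)
    have hdc := hfour d hdP hdC hd
    have hcP : c ∈ P := (zpowers_le.2 hdP : zpowers d ≤ P) (hdc ▸ mem_zpowers c)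
    set q := g * c * g⁻¹ with hq
    have hqout : q ∉ zpowers y := fun h => hd (by
      obtain ⟨j, hj⟩ := mem_zpowers_iff.1 (hdc ▸ mem_zpowers d : d ∈ zpowers c)
      rw [← hj, ← conj_zpow]
      exact zpow_mem h j)
    have hqP : q ∈ P := himg c hcP
    have hcS : c ∈ S := pow_mem hD.ymem _
    have hqS : q ∈ S := W.normalizer_inf hPT hgn hcP hcS
    -- the cyclic part of `P` is of order four
    have hcyc : ∀ a ∈ P, a ∈ zpowers y → a ∈ zpowers c := by
      intro a ha haC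
      by_contra hno
      have h4 : a ^ 4 ≠ 1 := fun h => hno (W.mem_zc haC h)
      obtain ⟨k, hk⟩ := hpow2 a (hPT ha)
      obtain ⟨r, -, hr'⟩ := (Nat.dvd_prime_pow Nat.prime_two).1 (orderOf_dvd_of_pow_eq_one hk)
      have hr3 : 3 ≤ r := by
        by_contra hlt
        refine h4 (orderOf_dvd_iff_pow_eq_one.1 ?_)
        rw [hr', show (4 : ℕ) = 2 ^ 2 by norm_num]
        exact pow_dvd_pow 2 (by omega)
      have hb : orderOf (a ^ 2 ^ (r - 2)) = 4 := by
        rw [orderOf_pow_of_dvd (pow_ne_zero _ two_ne_zero) (hr' ▸ pow_dvd_pow 2 (Nat.sub_le r 2)), hr',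
          Nat.pow_div (Nat.sub_le r 2) two_pos, show r - (r - 2) = 2 by omega]
        norm_num
      have hle : zpowers (a ^ 2 ^ (r - 2)) ≤ zpowers c := zpowers_le.2 (W.mem_zc (pow_mem haC _)
        (hb ▸ pow_orderOf_eq_one (a ^ 2 ^ (r - 2))))
      have hca : c ∈ zpowers a := zpowers_le.2 (pow_mem (mem_zpowers a) _)
        ((eq_of_le_of_card_ge hle (by rw [Nat.card_zpowers, Nat.card_zpowers, hb, W.orderOf_c])).symm ▸ mem_zpowers c)
      obtain ⟨j, hj⟩ := mem_zpowers_iff.1 hca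
      refine hqout ?_
      rw [hq, ← hj, ← conj_zpow]
      refine zpow_mem (by_contra fun hout => ?_) j
      exact hno (hfour a ha haC hout ▸ mem_zpowers a)
    -- quotients of elements outside the cyclic part
    have hquot : ∀ a ∈ P, a ∈ S → a ∉ zpowers y → ∀ b ∈ P, b ∈ S → b ∉ zpowers y →
        a⁻¹ * b ∈ zpowers c := by
      intro a haP haS haC b hbP hbS hbC
      refine hcyc _ (mul_mem (inv_mem haP) hbP) ?_
      obtain ⟨i, rfl⟩ := hD.out_of_not haS haC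
      obtain ⟨j, rfl⟩ := hD.out_of_not hbS hbC
      rw [show (x * y ^ i)⁻¹ * (x * y ^ j) = (y ^ i)⁻¹ * y ^ j by group]
      exact mul_mem (inv_mem (zpow_mem (mem_zpowers y) i)) (zpow_mem (mem_zpowers y) j)
    have hg2 : g ^ 2 ∈ (moveSub S P) := pow_mem hg 2
    set q₂ := g * q * g⁻¹ with hq₂
    have hq₂P : q₂ ∈ P := himg q hqP
    have hq₂S : q₂ ∈ S := W.normalizer_inf hPT hgn hqP hqS
    have hq₂out : q₂ ∉ zpowers y := fun h => by
      have h2 : g ^ 2 * c * (g ^ 2)⁻¹ = q₂ := by rw [hq₂, hq, pow_two]; group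
      obtain ⟨n, hn⟩ := exists_pow_eq_self_of_coprime (x := g) (n := 2) (Nat.coprime_two_left.2 hgo)
      refine hqout (hcy ?_)
      have hN : g ^ 2 ∈ normalizer (zpowers c : Set F) := Cfsg.Lib.ZStarApps.mem_normalizer_of_maps fun a ha => by
        obtain ⟨j, rfl⟩ := mem_zpowers_iff.1 ha
        rw [← conj_zpow, h2]
        exact zpow_mem (hcyc q₂ hq₂P h) j
      exact (mem_normalizer_iff.1 (hn ▸ pow_mem hN n) c).1 (mem_zpowers c)
    have hzcc : ∀ a : F, Commute a z := fun a => mem_center_iff.1 W.central a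
    have hzc : zpowers z ≤ zpowers c := zpowers_le.2 (W.c_sq ▸ mul_mem (mem_zpowers c) (mem_zpowers c))
    have hqq : q⁻¹ * q₂ ∈ zpowers c := hquot q hqP hqS hqout q₂ hq₂P hq₂S hq₂out
    have hqq' : q⁻¹ * q₂ ∉ zpowers z := fun h => by
      obtain ⟨j, hj⟩ := mem_zpowers_iff.1 h
      refine hqout (hcy ?_)
      have h1 : c⁻¹ * q = z ^ j := by
        rw [show c⁻¹ * q = g⁻¹ * (q⁻¹ * q₂) * g by rw [hq₂, hq]; group, ← hj, mul_assoc,
          ← ((hzcc g).zpow_right j).eq, inv_mul_cancel_left]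
      rw [show q = c * (c⁻¹ * q) by group, h1]
      exact mul_mem (mem_zpowers c) (hzc (zpow_mem (mem_zpowers z) j))
    have hsplit : ∀ a ∈ zpowers c, a ∈ zpowers z ∨ ∀ b ∈ zpowers c, b ∉ zpowers z → b⁻¹ * a ∈ zpowers z := by
      have hodd' : ∀ k : ℤ, Even k → c ^ k ∈ zpowers z := fun k hk => by
        obtain ⟨l, rfl⟩ := hk
        rw [zpow_add, ← ((Commute.refl c).zpow_zpow l l).eq, ← (Commute.refl c).mul_zpow, W.c_sq]
        exact zpow_mem (mem_zpowers z) l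
      intro a ha
      obtain ⟨i, rfl⟩ := mem_zpowers_iff.1 ha
      rcases Int.even_or_odd i with hi | hi
      · exact Or.inl (hodd' i hi)
      · refine Or.inr fun b hb hbz => ?_
        obtain ⟨j, rfl⟩ := mem_zpowers_iff.1 hb
        have hj : Odd j := Int.not_even_iff_odd.1 fun h => hbz (hodd' j h)
        rw [← zpow_neg, ← zpow_add]
        exact hodd' _ (hj.neg.add_odd hi)
    obtain ⟨i, hi⟩ := hD.out_of_not hqS hqout
    refine Or.inr ⟨hcP, ⟨i, hi ▸ hqP⟩, fun h hh => ?_⟩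
    set e := h * c * h⁻¹ with he
    have heP : e ∈ P := (mem_normalizer_iff.1 hh c).1 hcP
    have heS : e ∈ S := W.normalizer_inf hPT hh hcP hcS
    suffices hv : ∃ v ∈ (moveSub S P), v * e * v⁻¹ ∈ zpowers c by
      obtain ⟨v, hv, hve⟩ := hv
      refine ⟨v, hv, Cfsg.Lib.ZStarApps.mem_normalizer_of_maps fun a ha => ?_⟩
      obtain ⟨j, rfl⟩ := mem_zpowers_iff.1 ha
      rw [← conj_zpow, show v * h * c * (v * h)⁻¹ = v * e * v⁻¹ by rw [he]; group]
      exact zpow_mem hve j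
    by_cases heC : e ∈ zpowers y
    · exact ⟨1, one_mem _, by simpa using hcyc e heP heC⟩
    rcases hsplit _ (hquot q hqP hqS hqout e heP heS heC) with h1 | h1
    · refine ⟨g⁻¹, inv_mem hg, ?_⟩
      obtain ⟨j, hj⟩ := mem_zpowers_iff.1 h1
      rw [show g⁻¹ * e * g⁻¹⁻¹ = c * (g⁻¹ * (q⁻¹ * e) * g) by rw [hq]; group, ← hj, mul_assoc g⁻¹,
        ← ((hzcc g).zpow_right j).eq, inv_mul_cancel_left]
      exact mul_mem (mem_zpowers c) (hzc (zpow_mem (mem_zpowers z) j))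
    · refine ⟨(g ^ 2)⁻¹, inv_mem hg2, ?_⟩
      have h2 := h1 _ hqq hqq'
      obtain ⟨j, hj⟩ := mem_zpowers_iff.1 h2
      rw [show (g ^ 2)⁻¹ * e * (g ^ 2)⁻¹⁻¹ = c * ((g ^ 2)⁻¹ * ((q⁻¹ * q₂)⁻¹ * (q⁻¹ * e)) * g ^ 2) by
        simp only [hq₂, hq, pow_two, mul_inv_rev, inv_inv, mul_assoc, inv_mul_cancel_left, mul_inv_cancel_left], ← hj, mul_assoc (g ^ 2)⁻¹, ← ((hzcc (g ^ 2)).zpow_right j).eq,
        inv_mul_cancel_left]
      exact mul_mem (mem_zpowers c) (hzc (zpow_mem (mem_zpowers z) j))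

theorem eq_zero_or_le {P : Subgroup F} (hy : y ^ 2 ^ m ∈ P) {i : ℤ} (hx : x * y ^ i ∈ P) :
    m ≠ 0 ∨ S ≤ P := by
  refine or_iff_not_imp_left.2 fun hm => ?_
  rw [not_not] at hm
  subst hm
  rw [pow_zero, pow_one] at hy
  have hC : zpowers y ≤ P := zpowers_le.2 hy
  have hx' : x ∈ P := (mul_mem_cancel_right (hC (zpow_mem (mem_zpowers y) i))).1 hx
  intro s hs
  rcases W.data.cases s hs with h | h
  · exact hC h
  · have := mul_mem hx' (hC h)
    rwa [mul_inv_cancel_left] at this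

/-- all fusion quotients act on `S` as its elements -/
theorem fusion_inner {v g : F} (hv : v ∈ (T : Subgroup F)) (hg : g * v * g⁻¹ ∈ (T : Subgroup F)) :
    v⁻¹ * (g * v * g⁻¹) ∈ innerSub S := by
  haveI : Fact (Nat.Prime 2) := ⟨Nat.prime_two⟩
  set Φ : Subgroup F → (F → F) → Prop := fun P f => ∀ p ∈ P, p⁻¹ * f p ∈ innerSub S with hΦ
  suffices h : Φ (zpowers v) (fun w => g * w * g⁻¹) from h v (mem_zpowers v)
  refine Cfsg.Lib.Fusion.alperin_radical (F := Cfsg.groupFusionSystem (T : Subgroup F)) (Φ := Φ) T.2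
    (Cfsg.Lib.Fusion.saturated_group (S := T)) ⟨?_, ?_, ?_, ?_, ?_⟩ ?_ ?_
    (Cfsg.Lib.Fusion.isMap_group_iff.2 ⟨zpowers_le.2 hv, fun w hw => ?_, g, fun _ _ => rfl⟩)
  · intro P a hP ha p hp
    rw [show p⁻¹ * (a * p * a⁻¹) = p⁻¹ * a * p⁻¹⁻¹ * a⁻¹ by group]
    exact W.comm_T (inv_mem (hP hp)) ha
  · intro P f f' _ he h p hp
    rw [he p hp]; exact h p hp
  · exact fun P R f _ hR h p hp => h p (hR hp)
  · intro P Q f f' _ _ hfQ h h' p hp
    have := mul_mem (h p hp) (h' _ (hfQ p hp))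
    rwa [mul_assoc, mul_inv_cancel_left] at this
  · intro P f f' hf _ hl h q hq
    obtain ⟨p, hp, rfl⟩ := hf.mem_img.1 hq
    rw [hl p hp, show (f p)⁻¹ * p = (p⁻¹ * f p)⁻¹ by group]
    exact inv_mem (h p hp)
  · intro f hf p hp
    obtain ⟨-, hfT, a, ha⟩ := Cfsg.Lib.Fusion.isMap_group_iff.1 hf
    rw [ha p hp]
    refine W.fusion_normalizer (Cfsg.Lib.ZStarApps.mem_normalizer_of_maps fun s hs => ?_) hp (ha p hp ▸ hfT p hp)
    exact W.closed.2 s hs a (ha s (W.closed.1 hs) ▸ hfT s (W.closed.1 hs))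
  · intro P _ hn hc hr _ α hα p hp
    have hPT : P ≤ (T : Subgroup F) := hc.1
    rw [Cfsg.Lib.Fusion.autGroup_group hPT, Cfsg.Lib.Fusion.mem_autInducedBy] at hα
    obtain ⟨a, -, ea⟩ := hα
    have han := Cfsg.Lib.Fusion.mem_normalizer_of_mem_autInducedBy ea
    rw [Cfsg.Lib.Fusion.autFun_apply_mem α hp, ea ⟨p, hp⟩]
    show p⁻¹ * (a * p * a⁻¹) ∈ innerSub S
    have hap : a * p * a⁻¹ ∈ P := (mem_normalizer_iff.1 han p).1 hp
    have hle : S ≤ P → p⁻¹ * (a * p * a⁻¹) ∈ innerSub S := fun hSP =>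
      W.fusion_normalizer (Cfsg.Lib.ZStarApps.mem_normalizer_of_maps fun s hs =>
        W.normalizer_inf hPT han (hSP hs) hs) (hPT hp) (hPT hap)
    rcases W.site_cases hc hr with hSP | ⟨hy, ⟨i, hx⟩, hall⟩
    · exact hle hSP
    obtain ⟨u, hu, hua⟩ := hall a han
    have h1 := W.fusion_local hua (hPT hp) (hPT ((mem_normalizer_iff.1 (mul_mem hu.1 han) p).1 hp))
    have h2 := le_innerSub (hu.2 _ hap)
    have := mul_mem h1 (inv_mem h2)
    rwa [show p⁻¹ * (u * a * p * (u * a)⁻¹) * ((a * p * a⁻¹)⁻¹ * (u * (a * p * a⁻¹) * u⁻¹))⁻¹ =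
      p⁻¹ * (a * p * a⁻¹) by group] at this
  · obtain ⟨j, rfl⟩ := mem_zpowers_iff.1 hw
    rw [← conj_zpow]
    exact zpow_mem hg j

/-- commuting with the subgroup of order four and an outer element gives commuting with `S` -/
theorem mem_centralizer_of {r : F} (hr : r ∈ (T : Subgroup F)) (hi : r ∈ innerSub S)
    (h1 : Commute r (y ^ 2 ^ m)) {i : ℤ} (h2 : Commute r (x * y ^ i)) : r ∈ centralizer (S : Set F) := by
  obtain ⟨s, hs, e⟩ := hi
  have hD := W.data
  have hc1 : Commute s (y ^ 2 ^ m) := by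
    have := e (y ^ 2 ^ m) (pow_mem hD.ymem _)
    rw [h1.eq, mul_inv_cancel_right] at this
    exact (mul_inv_eq_iff_eq_mul.1 this.symm)
  have hsC := W.mem_of_comm hs hc1
  obtain ⟨j, rfl⟩ := mem_zpowers_iff.1 hsC
  have hy : Commute (y ^ j) y := (Commute.refl y).zpow_left j
  have hxy : x * y ^ i ∈ S := mul_mem hD.xmem (zpow_mem hD.ymem i)
  have hc2 : Commute (y ^ j) (x * y ^ i) := by
    have := e _ hxy
    rw [h2.eq, mul_inv_cancel_right] at this
    exact (mul_inv_eq_iff_eq_mul.1 this.symm)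
  have hx : Commute (y ^ j) x := by
    have := hc2.mul_right (hy.zpow_right (-i))
    rwa [mul_assoc, ← zpow_add, add_neg_cancel, zpow_zero, mul_one] at this
  obtain ⟨l, hl⟩ := mem_zpowers_iff.1 (W.center_eq hs hy hx)
  refine mem_centralizer_iff.2 fun a ha => ?_
  have := e a ha
  rw [← hl, ← ((hD.z_comm ha).zpow_right l).eq, mul_inv_cancel_right, mul_inv_eq_iff_eq_mul] at this
  exact this.symm

/-- the centraliser of `S` in `T` is strongly closed -/
theorem closed_centralizer (hTM : (T : Subgroup F) ≤ innerSub S) :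
    Cfsg.IsStronglyClosed ((T : Subgroup F) ⊓ centralizer (S : Set F)) (T : Subgroup F) := by
  haveI : Fact (Nat.Prime 2) := ⟨Nat.prime_two⟩
  set Cs := centralizer (S : Set F) with hCs
  have hnorm : ∀ {a : F}, a ∈ normalizer (S : Set F) → ∀ p, p ∈ Cs → a * p * a⁻¹ ∈ Cs := fun {a} ha p hp =>
    mem_centralizer_iff.2 fun s hs => by
      have hs' : a⁻¹ * s * a ∈ S := by simpa using (mem_normalizer_iff.1 (inv_mem ha) s).1 hs
      calc s * (a * p * a⁻¹) = a * (a⁻¹ * s * a * p) * a⁻¹ := by group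
        _ = a * (p * (a⁻¹ * s * a)) * a⁻¹ := by rw [mem_centralizer_iff.1 hp _ hs']
        _ = _ := by group
  have hiff : ∀ {a : F}, a ∈ normalizer (S : Set F) → ∀ p, p ∈ Cs ↔ a * p * a⁻¹ ∈ Cs := fun {a} ha p =>
    ⟨hnorm ha p, fun h => by
      have := hnorm (inv_mem ha) _ h
      rwa [show a⁻¹ * (a * p * a⁻¹) * a⁻¹⁻¹ = p by group] at this⟩
  refine ⟨inf_le_left, fun r hr g hg => mem_inf.2 ⟨hg, ?_⟩⟩
  obtain ⟨hrT, hrC⟩ := mem_inf.1 hr
  set Φ : Subgroup F → (F → F) → Prop := fun P f => ∀ p ∈ P, (p ∈ Cs ↔ f p ∈ Cs) with hΦ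
  suffices h : Φ (zpowers r) (fun w => g * w * g⁻¹) from (h r (mem_zpowers r)).1 hrC
  refine Cfsg.Lib.Fusion.alperin_radical (F := Cfsg.groupFusionSystem (T : Subgroup F)) (Φ := Φ) T.2
    (Cfsg.Lib.Fusion.saturated_group (S := T)) ⟨?_, ?_, ?_, ?_, ?_⟩ ?_ ?_
    (Cfsg.Lib.Fusion.isMap_group_iff.2 ⟨zpowers_le.2 hrT, fun w hw => ?_, g, fun _ _ => rfl⟩)
  · intro P a _ ha p _
    exact hiff (Cfsg.Lib.ZStarApps.mem_normalizer_of_maps fun s hs => conj_mem_of_closed W.closed ha hs) p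
  · intro P f f' _ he h p hp
    rw [he p hp]; exact h p hp
  · exact fun P R f _ hR h p hp => h p (hR hp)
  · exact fun P Q f f' _ _ hfQ h h' p hp => (h p hp).trans (h' _ (hfQ p hp))
  · intro P f f' hf _ hl h q hq
    obtain ⟨p, hp, rfl⟩ := hf.mem_img.1 hq
    rw [hl p hp]
    exact (h p hp).symm
  · intro f hf p hp
    obtain ⟨-, hfT, a, ha⟩ := Cfsg.Lib.Fusion.isMap_group_iff.1 hf
    rw [ha p hp]
    exact hiff (Cfsg.Lib.ZStarApps.mem_normalizer_of_maps fun s hs =>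
      W.closed.2 s hs a (ha s (W.closed.1 hs) ▸ hfT s (W.closed.1 hs))) p
  · intro P _ hn hc hr _ α hα p hp
    have hPT : P ≤ (T : Subgroup F) := hc.1
    rw [Cfsg.Lib.Fusion.autGroup_group hPT, Cfsg.Lib.Fusion.mem_autInducedBy] at hα
    obtain ⟨a, -, ea⟩ := hα
    have han := Cfsg.Lib.Fusion.mem_normalizer_of_mem_autInducedBy ea
    rw [Cfsg.Lib.Fusion.autFun_apply_mem α hp, ea ⟨p, hp⟩]
    show p ∈ Cs ↔ a * p * a⁻¹ ∈ Cs
    rcases W.site_cases hc hr with hSP | ⟨hy, ⟨i, hx⟩, -⟩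
    · exact hiff (Cfsg.Lib.ZStarApps.mem_normalizer_of_maps fun s hs =>
        W.normalizer_inf hPT han (hSP hs) hs) p
    have hxS : x * y ^ i ∈ S := mul_mem W.data.xmem (zpow_mem W.data.ymem i)
    have hQ : ∀ q, q ∈ Cs ↔ q ∈ Cs := fun q => Iff.rfl
    have key : ∀ b ∈ normalizer (P : Set F), ∀ q ∈ P, q ∈ Cs → b * q * b⁻¹ ∈ Cs := by
      intro b hb q hq hqC
      have hbq : b * q * b⁻¹ ∈ P := (mem_normalizer_iff.1 hb q).1 hq
      have hcom : ∀ e ∈ P, e ∈ S → Commute (b * q * b⁻¹) e := fun e he heS => by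
        have he' := W.normalizer_inf hPT (inv_mem hb) he heS
        have h1 : Commute q (b⁻¹ * e * b⁻¹⁻¹) := (mem_centralizer_iff.1 hqC _ he').symm
        have h2 := h1.map (MulAut.conj b).toMonoidHom
        simp only [MulEquiv.coe_toMonoidHom, MulAut.conj_apply] at h2
        rwa [show b * (b⁻¹ * e * b⁻¹⁻¹) * b⁻¹ = e by group] at h2
      exact W.mem_centralizer_of (hPT hbq) (hTM (hPT hbq)) (hcom _ hy (pow_mem W.data.ymem _))
        (hcom _ hx hxS)
    refine ⟨key a han p hp, fun h => ?_⟩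
    have := key a⁻¹ (inv_mem han) _ ((mem_normalizer_iff.1 han p).1 hp) h
    rwa [show a⁻¹ * (a * p * a⁻¹) * a⁻¹⁻¹ = p by group] at this
  · obtain ⟨j, rfl⟩ := mem_zpowers_iff.1 hw
    rw [← conj_zpow]
    exact zpow_mem hg j

/-- in a group generated by the conjugates of `S`, `S` is the Sylow subgroup -/
theorem eq_sylow (hgen : normalClosure (S : Set F) = ⊤) : S = (T : Subgroup F) := by
  haveI : Fact (Nat.Prime 2) := ⟨Nat.prime_two⟩
  have hTM : (T : Subgroup F) ≤ innerSub S := sylow_le_of_fusion hgen W.closed.1 le_innerSub fun v hv g hg =>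
    W.fusion_inner hv hg
  set R := (T : Subgroup F) ⊓ centralizer (S : Set F) with hR
  have hRc := W.closed_centralizer hTM
  have hfac : ∀ t ∈ (T : Subgroup F), ∃ s ∈ S, ∃ r ∈ R, t = s * r := fun t ht => by
    obtain ⟨s, hs, e⟩ := hTM ht
    refine ⟨s, hs, s⁻¹ * t, mem_inf.2 ⟨mul_mem (inv_mem (W.closed.1 hs)) ht,
      mem_centralizer_iff.2 fun a ha => ?_⟩, by group⟩
    calc a * (s⁻¹ * t) = s⁻¹ * (s * a * s⁻¹) * t := by group
      _ = s⁻¹ * (t * a * t⁻¹) * t := by rw [e a ha]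
      _ = s⁻¹ * t * a := by group
  set Z := zpowers z with hZ
  have hZc : Z ≤ center F := zpowers_le.2 W.central
  haveI : Z.Normal := ⟨fun w hw g => by rwa [mem_center_iff.1 (hZc hw) g, mul_inv_cancel_right]⟩
  set π := QuotientGroup.mk' Z with hπ
  set Tb := T.mapSurjective (QuotientGroup.mk'_surjective Z) with hTb
  have hOq : Cfsg.pPrimeCore 2 (F ⧸ Z) = ⊥ := Cfsg.Lib.AbelianSylowTwoInner.pPrimeCore_quotient_eq_bot
    W.core Z hZc (T.2.to_le (zpowers_le.2 (W.closed.1 W.data.z_mem)))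
  have hprod := Cfsg.Lib.ProdFusion.product_fusion (F ⧸ Z) Tb (S.map π) (R.map π)
    (by rw [hTb, Sylow.coe_mapSurjective]; exact stronglyClosed_quotient T W.closed Z)
    (by rw [hTb, Sylow.coe_mapSurjective]; exact stronglyClosed_quotient T hRc Z)
    (by
      rintro _ ⟨a, ha, rfl⟩ _ ⟨b, hb, rfl⟩
      rw [← map_mul, ← map_mul, mem_centralizer_iff.1 (mem_inf.1 hb).2 a ha])
    (by
      rw [eq_bot_iff]
      rintro _ ⟨⟨s, hs, rfl⟩, r, hr, he⟩
      have hd : r⁻¹ * s ∈ Z := QuotientGroup.eq.1 he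
      have hrS : r ∈ S := by
        have := mul_mem hs (inv_mem (zpowers_le.2 W.data.z_mem hd))
        rwa [mul_inv_rev, inv_inv, mul_inv_cancel_left] at this
      have hc := mem_centralizer_iff.1 (mem_inf.1 hr).2
      have hrZ := W.center_eq hrS (hc y W.data.ymem).symm (hc x W.data.xmem).symm
      exact mem_bot.2 (he ▸ (QuotientGroup.eq_one_iff r).2 hrZ))
  rw [hOq, le_bot_iff] at hprod
  have htop : normalClosure ((S.map π : Subgroup (F ⧸ Z)) : Set (F ⧸ Z)) = ⊤ := by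
    refine eq_top_iff.2 fun q _ => ?_
    obtain ⟨w, rfl⟩ := QuotientGroup.mk'_surjective Z q
    exact (normalClosure_le_normal (N := (normalClosure ((S.map π : Subgroup (F ⧸ Z)) : Set (F ⧸ Z))).comap π)
      fun a ha => subset_normalClosure (mem_map_of_mem π ha)) (hgen ▸ mem_top w)
  rw [htop] at hprod
  have hcentral : ∀ r ∈ R, ∀ g : F, ∃ ε ∈ Z, g * r * g⁻¹ = r * ε := fun r hr g => by
    have h1 : ⁅π g, π r⁆ ∈ (⊥ : Subgroup (F ⧸ Z)) := hprod ▸ commutator_mem_commutator (mem_top _)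
      (subset_normalClosure (mem_map_of_mem π hr))
    rw [mem_bot, ← map_commutatorElement] at h1
    have h2 : ⁅g, r⁆ ∈ Z := (QuotientGroup.eq_one_iff _).1 h1
    refine ⟨r⁻¹ * ⁅g, r⁆ * r, ?_, by rw [commutatorElement_def]; group⟩
    rw [mul_assoc, ← mem_center_iff.1 (hZc h2) r, inv_mul_cancel_left]
    exact h2
  refine le_antisymm W.closed.1 (sylow_le_of_fusion hgen W.closed.1 le_rfl fun v hv g hg => ?_)
  obtain ⟨s, hs, r, hr, rfl⟩ := hfac v hv
  obtain ⟨ε, hε, he⟩ := hcentral r hr g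
  have hεS : ε ∈ S := zpowers_le.2 W.data.z_mem hε
  have e1 : g * (s * r) * g⁻¹ = g * s * g⁻¹ * (r * ε) := by rw [← he]; group
  rw [e1] at hg ⊢
  have hgs : g * s * g⁻¹ ∈ (T : Subgroup F) :=
    (mul_mem_cancel_right (mul_mem (mem_inf.1 hr).1 (W.closed.1 hεS))).1 hg
  have hgsS := W.closed.2 s hs g hgs
  have hd : s⁻¹ * (g * s * g⁻¹) ∈ S := mul_mem (inv_mem hs) hgsS
  rw [show (s * r)⁻¹ * (g * s * g⁻¹ * (r * ε)) = r⁻¹ * (s⁻¹ * (g * s * g⁻¹) * r) * ε by group,
    mem_centralizer_iff.1 (mem_inf.1 hr).2 _ hd, inv_mul_cancel_left]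
  exact mul_mem hd hεS

end One

/-- a strongly closed subgroup with one involution, central, generating the group normally -/
theorem eq_sylow_of_rankOne (hO : Cfsg.pPrimeCore 2 F = ⊥) (T : Sylow 2 F) {S : Subgroup F}
    (hS : Cfsg.IsStronglyClosed S (T : Subgroup F)) (h4 : ¬ Cfsg.Lib.RankOneInter.FourIn S)
    (hz : ∀ a ∈ S, orderOf a = 2 → a ∈ center F) (hgen : normalClosure (S : Set F) = ⊤) :
    S = (T : Subgroup F) := by
  haveI : Fact (Nat.Prime 2) := ⟨Nat.prime_two⟩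
  rcases Cfsg.Lib.RankOneInter.cyclic_or_quaternion (T.2.to_le hS.1) h4 with hc | ⟨n, ⟨e⟩⟩
  · haveI : S.Normal := cyclic_normal hO T hS hc
    rw [normalClosure_eq_self] at hgen
    exact le_antisymm hS.1 (hgen ▸ le_top)
  · obtain ⟨y, x, z, D⟩ := exists_qdata e
    obtain ⟨y', x', D', hfix⟩ := D.exists_fixed T.2 hS.1 fun t ht a ha => conj_mem_of_closed hS ht ha
    exact One.eq_sylow ⟨hO, hS, D', hfix, hz z D'.z_mem D'.orderOf_z⟩ hgen

end Cfsg.Lib.ShutClosed
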