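/-
Row 3289: strong embedding from the involutions of the normal closure, the quotient by a core inside `H`, and
the case of a single involution.
-/
import Cfsg.Agent.TwoFusion.ShutClosed.RankOne
import Cfsg.Agent.BenderSE.Dependents.StrongClosure
import Cfsg.Agent.Coprime.SolvableBasics
import Cfsg.Agent.RankOne.Inverted

set_option autoImplicit false
set_option linter.style.haveILetI false
set_option linter.unusedSectionVars false

namespace Cfsg.Lib.ShutClosed

open Subgroup Cfsg.Lib.InvolCalc Cfsg.Lib.StrongEmb Cfsg.Lib.Isolated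
open Cfsg.Lib.BenderSE.CritDep (Shut)
open Cfsg.Lib.RankOneInter (FourIn)

universe u

variable {G : Type u} [Group G] [Finite G] {T : Sylow 2 G} {S H : Subgroup G}

theorem Shut_le (C : Shut T S H) : S ≤ H := C.closed.1.trans C.sylow_le

/-- the normal closure of `S` is not inside `H` -/
theorem not_le_of_mem (C : Shut T S H) {M : Subgroup G} [M.Normal] {s : G} (hs : s ∈ S) (hs1 : s ≠ 1)
    (hsM : s ∈ M) : ¬ M ≤ H := fun h =>
  C.proper (eq_top_iff.2 fun g _ => C.isolated hs hs1 (h (Subgroup.Normal.conj_mem ‹_› s hsM g)))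

/-- `H` is strongly embedded in the normal closure once its involutions come from `S` -/
theorem embedded_of_invol (C : Shut T S H)
    (hinv : ∀ i ∈ (T : Subgroup G), i ∈ normalClosure (S : Set G) → orderOf i = 2 → i ∈ S) :
    Cfsg.IsStronglyEmbedded ((H ⊓ normalClosure (S : Set G)).subgroupOf (normalClosure (S : Set G))) := by
  set X := normalClosure (S : Set G) with hX
  obtain ⟨z, hzS, hz, -, -⟩ := C.exists_central
  have hzX : z ∈ X := subset_normalClosure hzS
  have hzH : z ∈ H := Shut_le C hzS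
  have hreach : ∀ i, i ∈ H → i ∈ X → orderOf i = 2 → ∃ h ∈ H, ∃ s ∈ S, i = h * s * h⁻¹ ∧ s ≠ 1 := by
    intro i hiH hiX hi
    obtain ⟨h, hh, hhT⟩ := C.exists_conj (P := zpowers i)
      (IsPGroup.of_card (n := 1) (by rw [Nat.card_zpowers, hi, pow_one])) (zpowers_le.2 hiH)
    refine ⟨h⁻¹, inv_mem hh, h * i * h⁻¹, hinv _ (hhT i (mem_zpowers i)) (Subgroup.Normal.conj_mem inferInstance i hiX h)
      (by rw [orderOf_conj', hi]), by group, fun e => ?_⟩
    rw [conj_eq_one_iff] at e
    exact ne_one_of_order_two hi e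
  refine ⟨fun ht => ?_, ?_, fun g hg => ?_⟩
  · exact not_le_of_mem C hzS (ne_one_of_order_two hz) hzX (fun x hx => (mem_inf.1
      (subgroupOf_eq_top.1 ht hx)).1)
  · exact even_iff_two_dvd.2 ((show orderOf (⟨z, hzX⟩ : X) = 2 by rw [Subgroup.orderOf_mk, hz]) ▸
      Subgroup.orderOf_dvd_natCard _ (mem_subgroupOf.2 (mem_inf.2 ⟨hzH, hzX⟩)))
  · rw [← Nat.not_even_iff_odd]
    intro hev
    obtain ⟨t, ht, ht2⟩ := exists_involution_of_even hev
    obtain ⟨ht1, y, hy, hye⟩ := mem_inf.1 ht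
    have hye' : (g : G) * (y : G) * (g : G)⁻¹ = t := congrArg Subtype.val hye
    have hy2 : orderOf (y : G) = 2 := by
      rw [← orderOf_conj' (g : G) (y : G), hye', Subgroup.orderOf_coe, ht2]
    obtain ⟨h, hh, s, hs, he, hs1⟩ := hreach _ (mem_inf.1 (mem_subgroupOf.1 hy)).1 y.2 hy2
    have h1 : (g : G) * h * s * ((g : G) * h)⁻¹ ∈ H := by
      rw [show (g : G) * h * s * ((g : G) * h)⁻¹ = (g : G) * (h * s * h⁻¹) * (g : G)⁻¹ by group, ← he, hye']
      exact (mem_inf.1 (mem_subgroupOf.1 ht1)).1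
    exact hg (mem_subgroupOf.2 (mem_inf.2 ⟨(mul_mem_cancel_right hh).1 (C.isolated hs hs1 h1), g.2⟩))

theorem inj_of_odd (T : Sylow 2 G) {O : Subgroup G} (hO : Odd (Nat.card O)) {t : G} (ht : t ∈ (T : Subgroup G))
    (h : t ∈ O) : t = 1 := by
  obtain ⟨k, hk⟩ := T.2 ⟨t, ht⟩
  exact orderOf_eq_one_iff.1 (Nat.eq_one_of_dvd_coprimes (Nat.Coprime.pow_right k (Nat.coprime_two_right.2 hO))
    (Subgroup.orderOf_dvd_natCard O h) (orderOf_dvd_of_pow_eq_one (congrArg Subtype.val hk)))

/-- a four-group of the image comes from one of `S` -/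
theorem fourIn_of_map (T : Sylow 2 G) (hST : S ≤ (T : Subgroup G)) {O : Subgroup G} [O.Normal]
    (hO : Odd (Nat.card O)) (h : FourIn (S.map (QuotientGroup.mk' O))) : FourIn S := by
  obtain ⟨u, v, ⟨a, ha, rfl⟩, ⟨b, hb, rfl⟩, hu2, hv2, hu1, hv1, hne, hc⟩ := h
  have hinj : ∀ p q, p ∈ S → q ∈ S → QuotientGroup.mk' O p = QuotientGroup.mk' O q → p = q :=
    fun p q hp hq e => inv_mul_eq_one.1 (inj_of_odd T hO (mul_mem (inv_mem (hST hp)) (hST hq))
      (QuotientGroup.eq.1 e))
  refine ⟨a, b, ha, hb, ?_, ?_, fun e => hu1 (by rw [e, map_one]), fun e => hv1 (by rw [e, map_one]),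
    fun e => hne (by rw [e]), hinj _ _ (mul_mem ha hb) (mul_mem hb ha) (by rw [map_mul, map_mul, hc])⟩
  · exact hinj _ _ (mul_mem ha ha) (one_mem S) (by rw [map_mul, hu2, map_one])
  · exact hinj _ _ (mul_mem hb hb) (one_mem S) (by rw [map_mul, hv2, map_one])

/-- with one involution, `S` is the Sylow subgroup of its normal closure -/
theorem eq_inf_of_rankOne (C : Shut T S H) (h4 : ¬ FourIn S) :
    S = (T : Subgroup G) ⊓ normalClosure (S : Set G) := by
  haveI : Fact (Nat.Prime 2) := ⟨Nat.prime_two⟩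
  set X := normalClosure (S : Set G) with hX
  obtain ⟨z, hzS, hz, hzT, hzc⟩ := C.exists_central
  have huniq : ∀ a ∈ S, orderOf a = 2 → a = z := fun a ha ha2 =>
    (Cfsg.Lib.RankOneInter.eq_of_not_fourIn h4 hzS (sq_of_order_two hz) (ne_one_of_order_two hz) ha
      (sq_of_order_two ha2) (hzc a (C.closed.1 ha)).eq).resolve_left (ne_one_of_order_two ha2)
  have hiso := isolated_unique C.closed hzS hz huniq
  set O := Cfsg.pPrimeCore 2 G with hO
  have hOodd : Odd (Nat.card O) := Cfsg.Lib.ZStarApps.odd_card_pPrimeCore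
  set π := QuotientGroup.mk' O with hπ
  have hzcen : π z ∈ center (G ⧸ O) := mem_center_iff.2 fun q => by
    obtain ⟨g, rfl⟩ := QuotientGroup.mk'_surjective O q
    have h := (QuotientGroup.eq_one_iff _).2 (Cfsg.Lib.ZStarApps.zstarProp hiso g)
    change π (z * g * z⁻¹ * g⁻¹) = 1 at h
    rw [map_mul, map_mul, map_mul, map_inv, map_inv, mul_inv_eq_one, mul_inv_eq_iff_eq_mul] at h
    exact h.symm
  set K := X.map π with hK
  haveI : K.Normal := (inferInstance : X.Normal).map π (QuotientGroup.mk'_surjective O)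
  set Tb := T.mapSurjective (QuotientGroup.mk'_surjective O) with hTb
  set Sb := S.map π with hSb
  have hTbc : (Tb : Subgroup (G ⧸ O)) = (T : Subgroup G).map π := Sylow.coe_mapSurjective ..
  have hSbT : Cfsg.IsStronglyClosed Sb (Tb : Subgroup (G ⧸ O)) := by
    rw [hTbc]; exact stronglyClosed_quotient T C.closed O
  have hSbK : Sb ≤ K := Subgroup.map_mono fun s hs => subset_normalClosure hs
  obtain ⟨P, hP⟩ := Cfsg.Lib.BenderSE.CritDep.exists_sylow_inf Tb K
    (by rw [normalizer_eq_top_iff.2 ‹K.Normal›]; exact le_top)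
  have hclo : Cfsg.IsStronglyClosed (Sb.subgroupOf K) (P : Subgroup K) := by
    rw [hP]; exact closed_subgroupOf hSbT K
  have hcore : Cfsg.pPrimeCore 2 K = ⊥ := by
    haveI : (Cfsg.pPrimeCore 2 K).Characteristic := Cfsg.Lib.Components.pPrimeCore_characteristic
    haveI : ((Cfsg.pPrimeCore 2 K).map K.subtype).Normal := ConjAct.normal_of_characteristic_of_normal
    have h := Cfsg.Lib.Components.le_pPrimeCore (p := 2) (N := (Cfsg.pPrimeCore 2 K).map K.subtype) (by
      rw [card_map_of_injective K.subtype_injective]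
      exact Nat.coprime_two_right.2 Cfsg.Lib.ZStarApps.odd_card_pPrimeCore)
    rw [show Cfsg.pPrimeCore 2 (G ⧸ O) = ⊥ from Cfsg.Lib.Coprime.pPrimeCore_quotient_eq_bot, le_bot_iff] at h
    exact (map_eq_bot_iff_of_injective _ K.subtype_injective).1 h
  have hfour : ¬ FourIn (Sb.subgroupOf K) := by
    rintro ⟨u, v, hu, hv, hu2, hv2, hu1, hv1, hne, hc⟩
    exact h4 (fourIn_of_map T C.closed.1 hOodd ⟨u, v, hu, hv, congrArg Subtype.val hu2, congrArg Subtype.val hv2,
      fun e => hu1 (Subtype.ext e), fun e => hv1 (Subtype.ext e), fun e => hne (Subtype.ext e),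
      congrArg Subtype.val hc⟩)
  have hcent : ∀ a ∈ Sb.subgroupOf K, orderOf a = 2 → a ∈ center K := by
    intro a ha ha2
    obtain ⟨s, hs, hse⟩ := mem_subgroupOf.1 ha
    have hs2 : orderOf s = 2 := order_two_of_mul_self
      (inj_of_odd T hOodd (mul_mem (C.closed.1 hs) (C.closed.1 hs)) ((QuotientGroup.eq_one_iff _).1 (by
        show π (s * s) = 1
        rw [map_mul, hse, ← Subgroup.coe_mul, sq_of_order_two ha2, Subgroup.coe_one])))
      fun e => ne_one_of_order_two ha2 (Subtype.ext (by rw [← hse, e, map_one, Subgroup.coe_one]))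
    refine mem_center_iff.2 fun k => Subtype.ext ?_
    show (k : G ⧸ O) * a = a * k
    rw [← hse, huniq s hs hs2]
    exact mem_center_iff.1 hzcen k
  have hgen : normalClosure ((Sb.subgroupOf K : Subgroup K) : Set K) = ⊤ := by
    set N := normalClosure ((Sb.subgroupOf K : Subgroup K) : Set K) with hN
    have hKN : K ≤ N.map K.subtype := by
      have hsup := Sylow.normalizer_sup_eq_top (N := K) P
      haveI hnorm : normalClosure (Sb : Set (G ⧸ O)) ≤ N.map K.subtype := by
        refine (closure_le _).2 fun w hw => ?_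
        obtain ⟨s, hs, hsw⟩ := Group.mem_conjugatesOfSet_iff.1 hw
        obtain ⟨g, rfl⟩ := isConj_iff.1 hsw
        have hg : g ∈ ((K ⊔ normalizer (((P : Subgroup K).map K.subtype : Subgroup (G ⧸ O)) : Set (G ⧸ O))
            : Subgroup (G ⧸ O)) : Set (G ⧸ O)) := by
          rw [sup_comm, hsup]; trivial
        rw [normal_mul] at hg
        obtain ⟨k, hk, n, hn, rfl⟩ := hg
        have hsP : s ∈ (P : Subgroup K).map K.subtype :=
          ⟨⟨s, hSbK hs⟩, hP ▸ mem_subgroupOf.2 (hSbT.1 hs), rfl⟩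
        obtain ⟨p, hp, hpe⟩ := (mem_normalizer_iff.1 hn s).1 hsP
        have hns : n * s * n⁻¹ ∈ Sb := hSbT.2 s hs n (by
          rw [← hpe]
          exact mem_subgroupOf.1 (hP ▸ hp : p ∈ (Tb : Subgroup (G ⧸ O)).subgroupOf K))
        refine ⟨⟨k, hk⟩ * ⟨n * s * n⁻¹, hSbK hns⟩ * ⟨k, hk⟩⁻¹,
          Subgroup.Normal.conj_mem inferInstance _ (subset_normalClosure (mem_subgroupOf.2 hns)) _, ?_⟩
        show k * (n * s * n⁻¹) * k⁻¹ = k * n * s * (k * n)⁻¹
        group
      refine le_trans ?_ hnorm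
      rw [hK, map_le_iff_le_comap]
      exact normalClosure_le_normal fun s hs => subset_normalClosure (mem_map_of_mem π hs)
    refine eq_top_iff.2 fun k _ => ?_
    obtain ⟨k', hk', he⟩ := hKN k.2
    rwa [← Subtype.ext he]
  have heq := eq_sylow_of_rankOne hcore P hclo hfour hcent hgen
  refine le_antisymm (le_inf C.closed.1 fun s hs => subset_normalClosure hs) fun t ht => ?_
  have h1 : (⟨π t, mem_map_of_mem π (mem_inf.1 ht).2⟩ : K) ∈ (P : Subgroup K) := by
    rw [hP]
    exact mem_subgroupOf.2 (hTbc ▸ mem_map_of_mem π (mem_inf.1 ht).1)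
  rw [← heq] at h1
  obtain ⟨s, hs, hse⟩ := mem_subgroupOf.1 h1
  have h2 : s⁻¹ * t = 1 := inj_of_odd T hOodd (mul_mem (inv_mem (C.closed.1 hs)) (mem_inf.1 ht).1)
    (QuotientGroup.eq.1 hse)
  rwa [← inv_mul_eq_one.1 h2]

/-- two commuting involutions of `S` put the odd core in `H` -/
theorem oddCore_le (C : Shut T S H) (h4 : FourIn S) : Cfsg.pPrimeCore 2 G ≤ H := by
  obtain ⟨p, q, hp, hq, hp2, hq2, hp1, hq1, hne, hpq⟩ := h4
  have hn : (Cfsg.pPrimeCore 2 G).Normal := inferInstance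
  intro x hx
  obtain ⟨a, b, c, d, ha, hb, hc, hd, -, -, -, -, he⟩ := Cfsg.Lib.RankOne.four_generation
    hp2 hq2 hpq Cfsg.Lib.ZStarApps.odd_card_pPrimeCore (fun y hy => hn.conj_mem y hy p)
    (fun y hy => hn.conj_mem y hy q) (x := x) hx
  rw [he]
  have hpq1 : p * q ≠ 1 := fun h => hne ((eq_inv_of_mul_eq_one_left h).trans (inv_eq_of_mul_eq_one_right hq2))
  exact mul_mem (mul_mem (mul_mem (C.cent p hp hp1 (mem_centralizer_singleton_iff.2 ha))
    (C.cent q hq hq1 (mem_centralizer_singleton_iff.2 hb)))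
    (C.cent (p * q) (mul_mem hp hq) hpq1 (mem_centralizer_singleton_iff.2 hc)))
    (C.cent q hq hq1 (mem_centralizer_singleton_iff.2 hd))

/-- the hypotheses pass to the quotient by the odd core -/
theorem shut_quotient (C : Shut T S H) (O : Subgroup G) [O.Normal] (hodd : Odd (Nat.card O)) (hOH : O ≤ H) :
    Shut (T.mapSurjective (QuotientGroup.mk'_surjective O)) (S.map (QuotientGroup.mk' O))
      (H.map (QuotientGroup.mk' O)) := by
  haveI : Fact (Nat.Prime 2) := ⟨Nat.prime_two⟩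
  set π := QuotientGroup.mk' O with hπ
  have hlift : ∀ g, π g ∈ H.map π → g ∈ H := fun g hg => by
    obtain ⟨h, hh, he⟩ := hg
    have := mul_mem hh (hOH (QuotientGroup.eq.1 he))
    rwa [mul_inv_cancel_left] at this
  have hback : ∀ s ∈ S, s ≠ 1 → ∀ g, π (g * s * g⁻¹) ∈ H.map π → π g ∈ H.map π :=
    fun s hs hs1 g hg => mem_map_of_mem π (C.isolated hs hs1 (hlift _ hg))
  obtain ⟨z, hzS, hz, -, -⟩ := C.exists_central
  have hπz : π z ≠ 1 := fun h => ne_one_of_order_two hz
    (inj_of_odd T hodd (C.closed.1 hzS) ((QuotientGroup.eq_one_iff z).1 h))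
  refine ⟨by rw [Sylow.coe_mapSurjective]; exact stronglyClosed_quotient T C.closed O,
    fun h => hπz (mem_bot.1 (h ▸ mem_map_of_mem π hzS)),
    fun h => C.proper (eq_top_iff.2 fun g _ => hlift g (h ▸ mem_top _)), ?_, ?_⟩
  · rintro _ ⟨s, hs, rfl⟩ hs1 q hq
    obtain ⟨g, rfl⟩ := QuotientGroup.mk'_surjective O q
    refine hback s hs (fun e => hs1 (by rw [e, map_one])) g ?_
    rw [map_mul, map_mul, map_inv, mem_centralizer_singleton_iff.1 hq, mul_inv_cancel_right]
    exact mem_map_of_mem π (Shut_le C hs)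
  · intro q hq
    obtain ⟨g, rfl⟩ := QuotientGroup.mk'_surjective O q
    refine hback z hzS (ne_one_of_order_two hz) g ?_
    have hle : Cfsg.omegaOne 2 (S.map π) ≤ H.map π := (closure_le _).2 fun w hw =>
      Subgroup.map_mono (Shut_le C) hw.1
    rw [map_mul, map_mul, map_inv]
    refine hle ((mem_normalizer_iff.1 hq _).1 (subset_closure ⟨mem_map_of_mem π hzS, ?_⟩))
    rw [pow_two, ← map_mul, sq_of_order_two hz, map_one]

end Cfsg.Lib.ShutClosed
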