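/-
Row 3289, trivial odd core: some simple normal subgroup meets `S` and has the strongly embedded `H`-part
(the port of `Tight.exists_simple` to the conjugates in `H` of the elements of `S`).
-/
import Cfsg.Agent.TwoFusion.ShutClosed.Closed
import Cfsg.Agent.BenderSE.Dependents.TightReduce

set_option autoImplicit false
set_option linter.style.haveILetI false
set_option linter.unusedSectionVars false

namespace Cfsg.Lib.ShutClosed

open Subgroup Cfsg.Lib.InvolCalc Cfsg.Lib.StrongEmb Cfsg.Lib.Isolated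
open Cfsg.Lib.BenderSE.CritDep (Shut Pointed exists_sylow_inf order_two_mul oddCore_eq_bot_of_normalised CoverData)
open Cfsg.Lib.BenderSE (RegProp exists_frame normalCore_eq_bot_of_simple comm_of_nonab mem_normalizer_of_maps_to)
open Cfsg.Lib.BenderSE.ClosedCrit (CriterionProp)

universe u

variable {G : Type u} [Group G] [Finite G] {T : Sylow 2 G} {S H : Subgroup G}

/-- the involutions conjugate in `H` into `S` -/
def Qs (S H : Subgroup G) (u : G) : Prop := orderOf u = 2 ∧ ∃ h ∈ H, h * u * h⁻¹ ∈ S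

theorem qs_of_mem {u : G} (hu : u ∈ S) (hu2 : orderOf u = 2) : Qs S H u :=
  ⟨hu2, 1, one_mem H, by simpa using hu⟩

theorem qs_mem (C : Shut T S H) {u : G} (hu : Qs S H u) : u ∈ H := by
  obtain ⟨-, h, hh, hs⟩ := hu
  have := mul_mem (mul_mem (inv_mem hh) (Shut_le C hs)) hh
  rwa [show h⁻¹ * (h * u * h⁻¹) * h = u by group] at this

theorem qs_back (C : Shut T S H) {u g : G} (hu : Qs S H u) (hg : g * u * g⁻¹ ∈ H) : g ∈ H := by
  obtain ⟨hu2, h, hh, hs⟩ := hu
  have h1 : g * h⁻¹ * (h * u * h⁻¹) * (g * h⁻¹)⁻¹ ∈ H := by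
    rwa [show g * h⁻¹ * (h * u * h⁻¹) * (g * h⁻¹)⁻¹ = g * u * g⁻¹ by group]
  exact (mul_mem_cancel_right (inv_mem hh)).1
    (C.isolated hs (fun e => ne_one_of_order_two hu2 (conj_eq_one_iff.1 e)) h1)

theorem qs_cent (C : Shut T S H) {u : G} (hu : Qs S H u) : centralizer ({u} : Set G) ≤ H := fun c hc =>
  qs_back C hu (by rw [mem_centralizer_singleton_iff.1 hc, mul_inv_cancel_right]; exact qs_mem C hu)

theorem qs_conj (C : Shut T S H) {u g : G} (hu : Qs S H u) (hg : g * u * g⁻¹ ∈ H) : Qs S H (g * u * g⁻¹) := by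
  have hgH := qs_back C hu hg
  obtain ⟨hu2, h, hh, hs⟩ := hu
  exact ⟨by rw [orderOf_conj', hu2], h * g⁻¹, mul_mem hh (inv_mem hgH),
    by rwa [show h * g⁻¹ * (g * u * g⁻¹) * (h * g⁻¹)⁻¹ = h * u * h⁻¹ by group]⟩

theorem qs_mul (C : Shut T S H) {u v : G} (hu : Qs S H u) (hv : Qs S H v) (hc : Commute u v) (hne : u ≠ v) :
    Qs S H (u * v) := by
  obtain ⟨a, ha, has⟩ := hu.2
  obtain ⟨b, hb, hbs⟩ := hv.2
  obtain ⟨h, hh, h1, h2⟩ := C.conj_pair hc (a := a⁻¹) (b := b⁻¹) has hbs (by group) (by group)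
    (qs_mem C hu) (qs_mem C hv)
  refine ⟨order_two_mul hu.1 hv.1 hc (Ne.symm hne), h, hh, ?_⟩
  have := mul_mem h1 h2
  rwa [show h * u * h⁻¹ * (h * v * h⁻¹) = h * (u * v) * h⁻¹ by group] at this

theorem qs_pointed (C : Shut T S H) (L : Subgroup G) [L.Normal] (hL : ¬ L ≤ H) {z : G} (hzS : z ∈ S)
    (hzL : z ∈ L) (hz : orderOf z = 2) (hzc : ∀ t ∈ (T : Subgroup G), Commute t z) :
    Pointed (H.subgroupOf L) (⟨z, hzL⟩ : L) := by
  obtain ⟨P, hP⟩ := exists_sylow_inf T L (by rw [normalizer_eq_top_iff.2 ‹L.Normal›]; exact le_top)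
  refine ⟨by rw [Subgroup.orderOf_mk, hz], ⟨P, ?_, ?_⟩, mem_subgroupOf.2 (Shut_le C hzS),
    fun h => hL (subgroupOf_eq_top.1 h), fun g hg => qs_back C (qs_of_mem hzS hz) hg⟩
  · show (⟨z, hzL⟩ : L) ∈ (P : Subgroup L)
    rw [hP]; exact C.closed.1 hzS
  · intro s hs
    replace hs : s ∈ (P : Subgroup L) := hs
    rw [hP] at hs
    exact Subtype.ext (hzc (s : G) hs).eq

theorem qs_embedded (crit : CriterionProp.{u}) (C : Shut T S H) (L : Subgroup G) [L.Normal]
    [IsSimpleGroup L] (hL : ¬ L ≤ H) {z : G} (hzS : z ∈ S) (hzL : z ∈ L) (hz : orderOf z = 2)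
    (hzc : ∀ t ∈ (T : Subgroup G), Commute t z) : Cfsg.IsStronglyEmbedded (H.subgroupOf L) := by
  refine (qs_pointed C L hL hzS hzL hz hzc).embedded_of_simple crit fun g hcom hne c hc => ?_
  set y : L := g * ⟨z, hzL⟩ * g⁻¹ with hy
  have hzQ := qs_of_mem (H := H) hzS hz
  have hcom' : Commute z (y : G) := congrArg Subtype.val hcom.eq
  have hyH : (y : G) ∈ H := qs_cent C hzQ (mem_centralizer_singleton_iff.2 hcom'.eq.symm)
  have hyQ : Qs S H (y : G) := qs_conj C hzQ (g := (g : G)) hyH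
  exact mem_subgroupOf.2 (qs_cent C (qs_mul C hzQ hyQ hcom' fun h => hne (Subtype.ext h.symm))
    (mem_centralizer_singleton_iff.2 (congrArg Subtype.val (mem_centralizer_singleton_iff.1 hc))))

/-- a subgroup without such involutions and normalised by `z` is centralised by `z` modulo its odd core -/
theorem qs_isolated_in (C : Shut T S H) (X : Subgroup G) (hX : ∀ u, Qs S H u → u ∉ X) {z : G}
    (hzQ : Qs S H z) (hz : orderOf z = 2) (hzX : z ∈ normalizer (X : Set G))
    (hO : Cfsg.oddCore X = ⊥) : ∀ x ∈ X, Commute x z := by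
  intro x hx
  set Y := X ⊔ zpowers z with hY
  have hzY : z ∈ Y := mem_sup_right (mem_zpowers z)
  have hle : Y ≤ normalizer (X : Set G) := sup_le le_normalizer (zpowers_le.2 hzX)
  have hmem : ∀ y ∈ Y, ∃ a ∈ X, ∃ m : ℤ, y = a * z ^ m := fun y hy => by
    have hy' : y ∈ ((X ⊔ zpowers z : Subgroup G) : Set G) := hy
    rw [coe_mul_of_right_le_normalizer_left _ _ (zpowers_le.2 hzX)] at hy'
    obtain ⟨a, ha, w, hw, rfl⟩ := hy'
    obtain ⟨m, rfl⟩ := mem_zpowers_iff.1 hw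
    exact ⟨a, ha, m, rfl⟩
  have hzi : Cfsg.IsIsolatedInvolution (⟨z, hzY⟩ : Y) := ⟨by rw [Subgroup.orderOf_mk, hz], fun g hg => by
    obtain ⟨a, ha, m, hgm⟩ := hmem g g.2
    have e : (g : G) * z * (g : G)⁻¹ = a * z * a⁻¹ := by
      rw [hgm, show a * z ^ m * z * (a * z ^ m)⁻¹ = a * (z ^ m * z * (z ^ m)⁻¹) * a⁻¹ by group,
        ((Commute.refl z).zpow_left m).eq, mul_inv_cancel_right]
    refine Subtype.ext ?_
    show (g : G) * z * (g : G)⁻¹ = z
    rw [e]
    by_contra hne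
    have hcom : Commute z (a * z * a⁻¹) := by rw [← e]; exact congrArg Subtype.val hg
    have hyN : a * z * a⁻¹ ∈ H := qs_cent C hzQ (mem_centralizer_singleton_iff.2 hcom.eq.symm)
    refine hX _ (qs_mul C hzQ (qs_conj C hzQ hyN) hcom (Ne.symm hne)) ?_
    rw [show z * (a * z * a⁻¹) = z * a * z⁻¹ * (z * z) * a⁻¹ by group, sq_of_order_two hz, mul_one]
    exact mul_mem ((mem_normalizer_iff.1 hzX a).1 ha) (inv_mem ha)⟩
  have h1 := Cfsg.Lib.ZStarApps.zstarProp hzi ⟨x, mem_sup_left hx⟩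
  set P := ((Cfsg.oddCore Y).map Y.subtype ⊓ X).subgroupOf X with hP
  haveI : P.Normal := ⟨fun p hp q => by
    obtain ⟨⟨y, hy, hye⟩, hpX⟩ := mem_inf.1 (mem_subgroupOf.1 hp)
    refine mem_subgroupOf.2 (mem_inf.2 ⟨⟨⟨q, mem_sup_left q.2⟩ * y * ⟨q, mem_sup_left q.2⟩⁻¹,
      Subgroup.Normal.conj_mem inferInstance y hy _, ?_⟩, SetLike.coe_mem _⟩)
    show (q : G) * (y : G) * (q : G)⁻¹ = _
    rw [show (y : G) = p from hye]; rfl⟩
  have hPodd : (Nat.card P).Coprime 2 := Nat.coprime_two_right.2 (by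
    refine Odd.of_dvd_nat (Cfsg.Lib.ZStarApps.odd_card_pPrimeCore (G := Y)) ?_
    rw [hP, Nat.card_congr (subgroupOfEquivOfLe inf_le_right).toEquiv,
      ← card_map_of_injective Y.subtype_injective (K := Cfsg.pPrimeCore 2 Y)]
    exact card_dvd_of_le inf_le_left)
  have hm : z * x * z⁻¹ * x⁻¹ ∈ X := mul_mem ((mem_normalizer_iff.1 hzX x).1 hx) (inv_mem hx)
  have h2 : (⟨_, hm⟩ : X) ∈ Cfsg.oddCore X := Cfsg.Lib.Components.le_pPrimeCore hPodd
    (mem_subgroupOf.2 (mem_inf.2 ⟨⟨_, h1, rfl⟩, hm⟩))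
  rw [hO, mem_bot] at h2
  have h3 : z * x * z⁻¹ * x⁻¹ = 1 := congrArg Subtype.val h2
  exact (mul_inv_eq_iff_eq_mul.1 (mul_inv_eq_one.1 h3)).symm

/-- with trivial odd core, some simple normal subgroup meets `S` and has the strongly embedded `H`-part -/
theorem qs_exists_simple (crit : CriterionProp.{u}) (reg : RegProp.{u}) (C : Shut T S H)
    (hO : Cfsg.oddCore G = ⊥) : ∃ L : Subgroup G, L.Normal ∧ IsSimpleGroup L ∧
      Cfsg.IsStronglyEmbedded (H.subgroupOf L) ∧ ∃ z ∈ S, z ∈ L ∧ orderOf z = 2 := by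
  classical
  haveI : Fact (Nat.Prime 2) := ⟨Nat.prime_two⟩
  obtain ⟨z₀, hz₀S, hz₀, -, -⟩ := C.exists_central
  have hex : ∃ n, ∃ X : Subgroup G, X.Normal ∧ (∃ u, Qs S H u ∧ u ∈ X) ∧ Nat.card X = n :=
    ⟨_, ⊤, inferInstance, ⟨z₀, qs_of_mem hz₀S hz₀, mem_top _⟩, rfl⟩
  obtain ⟨X, hXn, ⟨u₀, hu₀, hu₀X⟩, hXc⟩ := Nat.find_spec hex
  haveI := hXn
  have hmin : ∀ M : Subgroup G, M.Normal → M ≤ X → M ≠ X → ∀ u, Qs S H u → u ∉ M := by
    intro M hM hMX hne u hu huM
    have h1 := Nat.find_min' hex (m := Nat.card M) ⟨M, hM, ⟨u, hu, huM⟩, rfl⟩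
    exact hne (eq_of_le_of_card_ge hMX (hXc.trans_le h1))
  obtain ⟨z, hzS, hzX, hz, hzc⟩ : ∃ z ∈ S, z ∈ X ∧ orderOf z = 2 ∧ ∀ t ∈ (T : Subgroup G), Commute t z := by
    obtain ⟨hu2, h, -, hs⟩ := hu₀
    have hsX := hXn.conj_mem u₀ hu₀X h
    haveI : ((S ⊓ X).subgroupOf (T : Subgroup G)).Normal := ⟨fun w hw t => mem_subgroupOf.2
      (mem_inf.2 ⟨conj_mem_of_closed C.closed t.2 (mem_inf.1 (mem_subgroupOf.1 hw)).1,
        hXn.conj_mem _ (mem_inf.1 (mem_subgroupOf.1 hw)).2 _⟩)⟩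
    obtain ⟨w, hw, hwc, hwo⟩ := Cfsg.Lib.PGroups.exists_mem_center_of_normal_ne_bot T.2
      (N := (S ⊓ X).subgroupOf (T : Subgroup G)) fun hb => by
        have h1 : (⟨_, C.closed.1 hs⟩ : (T : Subgroup G)) ∈ (S ⊓ X).subgroupOf (T : Subgroup G) :=
          mem_subgroupOf.2 (mem_inf.2 ⟨hs, hsX⟩)
        rw [hb, mem_bot] at h1
        exact ne_one_of_order_two hu2 (conj_eq_one_iff.1 (congrArg Subtype.val h1))
    exact ⟨w, (mem_inf.1 (mem_subgroupOf.1 hw)).1, (mem_inf.1 (mem_subgroupOf.1 hw)).2,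
      by rw [Subgroup.orderOf_coe, hwo], fun t ht => congrArg Subtype.val (mem_center_iff.1 hwc ⟨t, ht⟩)⟩
  have hzQ : Qs S H z := qs_of_mem hzS hz
  have hXN : ¬ X ≤ H := not_le_of_mem C hzS (ne_one_of_order_two hz) hzX
  have hznorm : ∀ Y : Subgroup G, X ≤ normalizer (Y : Set G) → z ∈ normalizer (Y : Set G) := fun _ h => h hzX
  -- smaller normal subgroups are central
  have hsmall : ∀ M : Subgroup G, M.Normal → M ≤ X → M ≠ X → M ≤ centralizer (X : Set G) := by
    intro M hM hMX hne m hm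
    have hzM : ∀ x ∈ M, Commute x z := qs_isolated_in C M (hmin M hM hMX hne) hzQ hz
      (by rw [normalizer_eq_top_iff.2 hM]; exact mem_top z)
      (oddCore_eq_bot_of_normalised hO X M hMX (by rw [normalizer_eq_top_iff.2 hM]; exact le_top))
    have hX0 : Subgroup.normalClosure ({z} : Set G) = X := by
      by_contra h0
      exact hmin _ inferInstance (Subgroup.normalClosure_le_normal (Set.singleton_subset_iff.2 hzX)) h0
        z hzQ (subset_normalClosure (Set.mem_singleton z))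
    have hle : X ≤ centralizer ({m} : Set G) := by
      rw [← hX0]
      refine (closure_le _).2 fun y hy => ?_
      obtain ⟨w, hw, hwy⟩ := Group.mem_conjugatesOfSet_iff.1 hy
      rw [Set.mem_singleton_iff] at hw
      subst hw
      obtain ⟨a, rfl⟩ := isConj_iff.1 hwy
      have h1 := (hzM _ (hM.conj_mem m hm a⁻¹)).map (MulAut.conj a).toMonoidHom
      simp only [MulEquiv.coe_toMonoidHom, MulAut.conj_apply] at h1
      rw [show a * (a⁻¹ * m * a⁻¹⁻¹) * a⁻¹ = m by group] at h1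
      exact mem_centralizer_singleton_iff.2 h1.eq.symm
    exact mem_centralizer_iff.2 fun x hx => mem_centralizer_singleton_iff.1 (hle hx)
  set Z := X ⊓ centralizer (X : Set G) with hZdef
  have hZc : ∀ c ∈ Z, ∀ x ∈ X, Commute c x := fun c hc x hx =>
    (mem_centralizer_iff.1 (mem_inf.1 hc).2 x hx).symm
  haveI hZn : Z.Normal := ⟨fun c hc g => mem_inf.2 ⟨hXn.conj_mem c (mem_inf.1 hc).1 g,
    mem_centralizer_iff.2 fun x hx => by
      have h1 := ((hZc c hc _ (hXn.conj_mem x hx g⁻¹)).map (MulAut.conj g).toMonoidHom)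
      simp only [MulEquiv.coe_toMonoidHom, MulAut.conj_apply] at h1
      rw [show g * (g⁻¹ * x * g⁻¹⁻¹) * g⁻¹ = x by group] at h1
      exact h1.eq.symm⟩⟩
  have hZN : Z ≤ H := fun c hc => qs_cent C hzQ (mem_centralizer_singleton_iff.2 (hZc c hc z hzX).eq)
  have hZQ : ∀ c ∈ Z, ¬ Qs S H c := fun c hc hcQ => hXN fun x hx =>
    qs_cent C hcQ (mem_centralizer_singleton_iff.2 (hZc c hc x hx).eq.symm)
  have hlift : ∀ u, Qs S H u → u ∈ X → ∀ d : G, d * u * d⁻¹ * u⁻¹ ∈ Z → Commute d u := by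
    intro u hu huX d hd
    set c := d * u * d⁻¹ * u⁻¹ with hc
    have hconj : d * u * d⁻¹ = c * u := by rw [hc, inv_mul_cancel_right]
    have hcu : Qs S H (c * u) := hconj ▸ qs_conj C hu (hconj.symm ▸ mul_mem (hZN hd) (qs_mem C hu))
    have hc1 : c = 1 := by
      by_contra hne
      have h2 := qs_mul C hcu hu ((hZc c hd u huX).mul_left (Commute.refl u))
        fun e => hne (mul_eq_right.1 e)
      rw [mul_assoc, sq_of_order_two hu.1, mul_one] at h2
      exact hZQ c hd h2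
    rw [hc1, one_mul] at hconj
    exact mul_inv_eq_iff_eq_mul.1 hconj
  -- `X` is perfect
  have hperf : ⁅X, X⁆ = X := by
    by_contra hne
    have hle := hsmall ⁅X, X⁆ inferInstance (commutator_le_right X X) hne
    refine hXN fun x hx => qs_cent C hzQ (mem_centralizer_singleton_iff.2 ?_)
    refine (hlift z hzQ hzX x ?_).eq
    have h1 : x * z * x⁻¹ * z⁻¹ ∈ ⁅X, X⁆ := commutator_mem_commutator hx hzX
    exact mem_inf.2 ⟨commutator_le_right X X h1, hle h1⟩
  -- `X` modulo `Z` is simple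
  have hsimple : ∀ Y : Subgroup G, Z ≤ Y → Y ≤ X → X ≤ normalizer (Y : Set G) → Y ≠ X → Y ≤ Z := by
    by_contra hcon
    push Not at hcon
    have hex2 : ∃ n, ∃ Y : Subgroup G, Z ≤ Y ∧ Y ≤ X ∧ X ≤ normalizer (Y : Set G) ∧ Y ≠ X ∧ ¬ Y ≤ Z ∧
        Nat.card Y = n := by
      obtain ⟨Y, h1, h2, h3, h4, h5⟩ := hcon
      exact ⟨_, Y, h1, h2, h3, h4, h5, rfl⟩
    obtain ⟨Y, hZY, hYX, hYn, hYne, hYZ, hYc⟩ := Nat.find_spec hex2
    set cj : G → Subgroup G := fun a => Y.map (MulAut.conj a).toMonoidHom with hcj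
    have hcjX : ∀ a, cj a ≤ X := by
      rintro a _ ⟨y, hy, rfl⟩
      exact hXn.conj_mem y (hYX hy) a
    have hcjn : ∀ a, X ≤ normalizer (cj a : Set G) := fun a x hx => mem_normalizer_of_maps_to fun w hw => by
      obtain ⟨y, hy, rfl⟩ := hw
      refine ⟨(a⁻¹ * x * a) * y * (a⁻¹ * x * a)⁻¹, (mem_normalizer_iff.1 (hYn ?_) y).1 hy, ?_⟩
      · simpa using hXn.conj_mem x hx a⁻¹
      · simp only [MulEquiv.coe_toMonoidHom, MulAut.conj_apply]; group
    have hcjZ : ∀ a, Z ≤ cj a := fun a c hc => ⟨a⁻¹ * c * a, hZY (by simpa using hZn.conj_mem c hc a⁻¹), by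
      simp only [MulEquiv.coe_toMonoidHom, MulAut.conj_apply]; group⟩
    have hcjcard : ∀ a, Nat.card (cj a) = Nat.card Y := fun a => card_map_of_injective (MulAut.conj a).injective
    have hinter : ∀ a b, cj a ≠ cj b → cj a ⊓ cj b ≤ Z := by
      intro a b hab
      by_contra hI
      have h1 := Nat.find_min' hex2 (m := Nat.card ↥(cj a ⊓ cj b)) ⟨_, le_inf (hcjZ a) (hcjZ b),
        inf_le_left.trans (hcjX a), fun x hx => mem_normalizer_of_maps_to fun w hw => mem_inf.2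
          ⟨(mem_normalizer_iff.1 (hcjn a hx) w).1 (mem_inf.1 hw).1,
            (mem_normalizer_iff.1 (hcjn b hx) w).1 (mem_inf.1 hw).2⟩, fun h => ?_, hI, rfl⟩
      · have e1 := eq_of_le_of_card_ge (inf_le_left : cj a ⊓ cj b ≤ cj a) (by rw [hcjcard]; omega)
        have e2 := eq_of_le_of_card_ge (inf_le_right : cj a ⊓ cj b ≤ cj b) (by rw [hcjcard]; omega)
        exact hab (e1.symm.trans e2)
      · refine hYne (eq_of_le_of_card_ge hYX ?_)
        have h2 := card_le_of_le (inf_le_left : cj a ⊓ cj b ≤ cj a)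
        rw [h, hcjcard] at h2
        exact h2
    have hgen : Subgroup.normalClosure (Y : Set G) = X := by
      by_contra h0
      exact hYZ fun y hy => mem_inf.2 ⟨hYX hy, hsmall _ inferInstance (Subgroup.normalClosure_le_normal hYX) h0
        (subset_normalClosure hy)⟩
    have hXle : ∀ D : Subgroup G, (∀ a, cj a ≤ D) → X ≤ D := fun D hD => by
      rw [← hgen]
      refine (closure_le _).2 fun w hw => ?_
      obtain ⟨y, hy, hyw⟩ := Group.mem_conjugatesOfSet_iff.1 hw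
      obtain ⟨a, rfl⟩ := isConj_iff.1 hyw
      exact hD a ⟨y, hy, rfl⟩
    by_cases he : ∃ a, ∃ w, Qs S H w ∧ w ∈ cj a
    · obtain ⟨a, w, hwQ, hwa⟩ := he
      have hcent : ∀ u, Qs S H u → ∀ c e, u ∈ cj c → cj c ≠ cj e → cj e ≤ H := by
        intro u hu c e huc hne y hy
        refine qs_cent C hu (mem_centralizer_singleton_iff.2 (hlift u hu (hcjX c huc) y ?_).eq)
        refine hinter c e hne (mem_inf.2 ⟨mul_mem ((mem_normalizer_iff.1 (hcjn c (hcjX e hy)) u).1 huc)
          (inv_mem huc), ?_⟩)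
        rw [show y * u * y⁻¹ * u⁻¹ = y * (u * y⁻¹ * u⁻¹) by group]
        exact mul_mem hy ((mem_normalizer_iff.1 (hcjn e (hcjX c huc)) _).1 (inv_mem hy))
      by_cases hall : ∀ b, cj b = cj a
      · refine hYne (eq_of_le_of_card_ge hYX ?_)
        rw [← hcjcard a]
        exact card_le_of_le (hXle (cj a) fun b => (hall b).le)
      · push Not at hall
        obtain ⟨b, hb⟩ := hall
        obtain ⟨y, hy, hyw⟩ := id hwa
        simp only [MulEquiv.coe_toMonoidHom, MulAut.conj_apply] at hyw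
        have hb' : (b * a⁻¹) * w * (b * a⁻¹)⁻¹ ∈ cj b := ⟨y, hy, by
          simp only [MulEquiv.coe_toMonoidHom, MulAut.conj_apply]; rw [← hyw]; group⟩
        have hwb : Qs S H ((b * a⁻¹) * w * (b * a⁻¹)⁻¹) :=
          qs_conj C hwQ (hcent w hwQ a b hwa hb.symm hb')
        have haN : cj a ≤ H := hcent _ hwb b a hb' hb
        refine hXN (hXle H fun c => ?_)
        by_cases hc : cj c = cj a
        · rw [hc]; exact haN
        · exact hcent w hwQ a c hwa (Ne.symm hc)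
    · push Not at he
      refine hXN (le_trans (hXle (centralizer ({z} : Set G)) fun a y hy => ?_) (qs_cent C hzQ))
      exact mem_centralizer_singleton_iff.2 (qs_isolated_in C (cj a) (fun w hw hwa => he a w hw hwa)
        hzQ hz (hznorm _ (hcjn a)) (oddCore_eq_bot_of_normalised hO X (cj a) (hcjX a) (hcjn a)) y hy).eq
  -- the centre of `X`
  have hcen : center X = Z.subgroupOf X := by
    ext c
    simp only [mem_center_iff, mem_subgroupOf, hZdef, mem_inf, mem_centralizer_iff, SetLike.coe_mem, true_and]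
    exact ⟨fun h x hx => congrArg Subtype.val (h ⟨x, hx⟩), fun h x => Subtype.ext (h x x.2)⟩
  set π := QuotientGroup.mk' (center X) with hπ
  have hπ1 : ∀ x : X, π x = 1 ↔ (x : G) ∈ Z := fun x => by
    rw [hπ, QuotientGroup.mk'_apply, QuotientGroup.eq_one_iff, hcen, mem_subgroupOf]
  have hzπ : orderOf (π ⟨z, hzX⟩) = 2 := order_two_of_mul_self
    (by rw [← map_mul, show (⟨z, hzX⟩ : X) * ⟨z, hzX⟩ = 1 from Subtype.ext (sq_of_order_two hz), map_one])
    fun h => hZQ z ((hπ1 _).1 h) hzQ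
  haveI hqs_simple : IsSimpleGroup (X ⧸ center X) := by
    haveI : Nontrivial (X ⧸ center X) := ⟨⟨π ⟨z, hzX⟩, 1, fun h => by
      rw [h, orderOf_one] at hzπ
      exact absurd hzπ (by decide)⟩⟩
    refine ⟨fun D hD => ?_⟩
    set Y := (D.comap π).map X.subtype with hY
    have hmemY : ∀ x : X, (x : G) ∈ Y ↔ π x ∈ D := fun x => by
      rw [hY, show (x : G) = X.subtype x from rfl, mem_map_iff_mem X.subtype_injective, mem_comap]
    by_cases hYX : Y = X
    · right
      refine eq_top_iff.2 fun d _ => ?_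
      obtain ⟨x, rfl⟩ := QuotientGroup.mk'_surjective _ d
      exact (hmemY x).1 (hYX.symm ▸ x.2)
    · left
      have hle := hsimple Y (fun c hc => (hmemY ⟨c, (mem_inf.1 hc).1⟩).2 (by
          rw [(hπ1 _).2 hc]; exact one_mem D)) (map_subtype_le _)
        (fun x hx => mem_normalizer_of_maps_to fun w hw => by
          obtain ⟨y, hy, rfl⟩ := hw
          refine (hmemY (⟨x, hx⟩ * y * ⟨x, hx⟩⁻¹)).2 ?_
          rw [map_mul, map_mul, map_inv]
          exact hD.conj_mem _ (mem_comap.1 hy) _) hYX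
      refine eq_bot_iff.2 fun d hd => ?_
      obtain ⟨x, rfl⟩ := QuotientGroup.mk'_surjective _ d
      exact mem_bot.2 ((hπ1 x).2 (hle ((hmemY x).2 hd)))
  have hperfX : _root_.commutator X = ⊤ := by
    apply map_injective X.subtype_injective
    rw [map_subtype_commutator, hperf, ← MonoidHom.range_eq_map, range_subtype]
  have hqs : Cfsg.IsQuasisimple X := ⟨Group.isPerfect_def.2 hperfX, hqs_simple⟩
  have hOX : Cfsg.oddCore X = ⊥ := oddCore_eq_bot_of_normalised hO X X le_rfl le_normalizer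
  have hZ2 : IsPGroup 2 (center X) := by
    intro c
    refine ⟨(orderOf c).factorization 2, ?_⟩
    set d := (c : X) ^ 2 ^ (orderOf c).factorization 2 with hd
    have hdc : d ∈ center X := pow_mem c.2 _
    haveI : (zpowers d).Normal := ⟨fun w hw g => by
      have hwc : w ∈ center X := zpowers_le.2 hdc hw
      rw [mem_center_iff.1 hwc g, mul_inv_cancel_right]; exact hw⟩
    have hdodd : Odd (Nat.card (zpowers d)) := by
      rw [Nat.card_zpowers, hd, orderOf_pow_of_dvd (pow_ne_zero _ two_ne_zero)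
        (by rw [Subgroup.orderOf_coe]; exact Nat.ordProj_dvd _ _), Subgroup.orderOf_coe]
      rw [← Nat.not_even_iff_odd, even_iff_two_dvd]
      exact Nat.not_dvd_ordCompl Nat.prime_two (orderOf_pos c).ne'
    have h1 : zpowers d ≤ Cfsg.oddCore X := Cfsg.Lib.Components.le_pPrimeCore (Nat.coprime_two_right.2 hdodd)
    rw [hOX, le_bot_iff, zpowers_eq_bot] at h1
    exact Subtype.ext h1
  -- the criterion in `X / Z`
  set HX := H.subgroupOf X with hHX
  have hzle : center X ≤ HX := fun c hc => mem_subgroupOf.2 (hZN (by rwa [hcen, mem_subgroupOf] at hc))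
  have hliftH : ∀ x : X, π x ∈ HX.map π → x ∈ HX := fun x hx => by
    obtain ⟨h, hh, he⟩ := hx
    have := mul_mem hh (hzle (QuotientGroup.eq.1 he))
    rwa [mul_inv_cancel_left] at this
  have W₀ := qs_pointed C X hXN hzS hzX hz hzc
  obtain ⟨P, hzP, hP⟩ := W₀.central
  have hliftcomm : ∀ u : X, Qs S H (u : G) → ∀ d : X, Commute (π d) (π u) → Commute d u := by
    intro u hu d hdu
    refine Subtype.ext (hlift u hu u.2 d ?_).eq
    exact (hπ1 (d * u * d⁻¹ * u⁻¹)).1 (by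
      rw [map_mul, map_mul, map_mul, map_inv, map_inv, hdu.eq, mul_inv_cancel_right, mul_inv_cancel])
  have W' : Pointed (HX.map π) (π ⟨z, hzX⟩) := by
    refine ⟨hzπ, ⟨P.mapSurjective (QuotientGroup.mk'_surjective _), ⟨_, hzP, rfl⟩, ?_⟩,
      mem_map_of_mem _ (mem_subgroupOf.2 (qs_mem C hzQ)), fun h => W₀.ne (eq_top_iff.2 fun x _ => hliftH x
        (h.symm ▸ mem_top _)), fun g hg => ?_⟩
    · rintro _ ⟨s, hs, rfl⟩
      exact (hP s hs).map π
    · obtain ⟨g, rfl⟩ := QuotientGroup.mk'_surjective _ g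
      exact mem_map_of_mem _ (W₀.self g (hliftH _ (by rwa [map_mul, map_mul, map_inv])))
  have hse' : Cfsg.IsStronglyEmbedded (HX.map π) := W'.embedded_of_simple crit fun g hcom hne d hd => by
    obtain ⟨g, rfl⟩ := QuotientGroup.mk'_surjective _ g
    obtain ⟨d, rfl⟩ := QuotientGroup.mk'_surjective _ d
    rw [← map_inv, ← map_mul, ← map_mul] at hcom hne
    rw [← map_inv, ← map_mul, ← map_mul, ← map_mul] at hd
    set y := g * ⟨z, hzX⟩ * g⁻¹ with hy
    have hc1 : Commute (y : G) z := by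
      have := hliftcomm ⟨z, hzX⟩ hzQ y hcom.symm
      exact congrArg Subtype.val this.eq
    have hyN : (y : G) ∈ H := qs_cent C hzQ (mem_centralizer_singleton_iff.2 hc1.eq)
    have hy2 : orderOf (y : G) = 2 := by
      rw [hy, Subgroup.coe_mul, Subgroup.coe_mul, Subgroup.coe_inv, orderOf_conj', hz]
    have hyQ : Qs S H (y : G) := qs_conj C hzQ (g := (g : G)) hyN
    have huQ : Qs S H (((⟨z, hzX⟩ : X) * y : X) : G) :=
      qs_mul C hzQ hyQ hc1.symm fun h => hne (congrArg π (Subtype.ext h.symm))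
    have hdu := hliftcomm (⟨z, hzX⟩ * y) huQ d (mem_centralizer_singleton_iff.1 hd)
    exact mem_map_of_mem _ (mem_subgroupOf.2 (qs_cent C huQ
      (mem_centralizer_singleton_iff.2 (congrArg Subtype.val hdu.eq))))
  -- the Sylow subgroup of `X` is normal in `HX`
  have hna : ¬ IsMulCommutative (X ⧸ center X) := Cfsg.Lib.CpQuot.not_commutative hqs
  obtain ⟨L', Pb, Fr⟩ := exists_frame reg ⟨hse', normalCore_eq_bot_of_simple hse', comm_of_nonab hse' hna⟩
  obtain ⟨TX, hTX⟩ := exists_sylow_inf T X (by rw [normalizer_eq_top_iff.2 hXn]; exact le_top)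
  have hnorm : ∀ h ∈ HX, ∀ r ∈ (TX : Subgroup X), h * r * h⁻¹ ∈ (TX : Subgroup X) := by
    obtain ⟨SP, hSP⟩ := Fr.sylow
    have hP2 : IsPGroup 2 (Pb.comap π) :=
      Fr.q2.comap_of_ker_isPGroup π (by rw [hπ, QuotientGroup.ker_mk']; exact hZ2)
    set P' : Sylow 2 X := hP2.toSylow (by
      rw [index_comap_of_surjective _ (QuotientGroup.mk'_surjective _), ← hSP]; exact SP.not_dvd_index) with hP'def
    have hP' : (P' : Subgroup X) = Pb.comap π := IsPGroup.toSylow_coe hP2 _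
    have hP'n : ∀ h ∈ HX, ∀ r ∈ (P' : Subgroup X), h * r * h⁻¹ ∈ (P' : Subgroup X) := fun h hh r hr => by
      rw [hP'] at hr ⊢
      rw [mem_comap, map_mul, map_mul, map_inv]
      exact (mem_normalizer_iff.1 (Fr.qn (mem_map_of_mem π hh)) _).1 hr
    have hTH : (TX : Subgroup X) ≤ HX := by
      rw [hTX]; exact fun r hr => mem_subgroupOf.2 (C.sylow_le (mem_subgroupOf.1 hr))
    have hsup : IsPGroup 2 ((P' : Subgroup X) ⊔ (TX : Subgroup X) : Subgroup X) :=
      IsPGroup.to_sup_of_normal_left' P'.2 TX.2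
        fun r hr => mem_normalizer_of_maps_to (hP'n r (hTH hr))
    have e1 := P'.3 hsup le_sup_left
    have e2 := TX.3 hsup le_sup_right
    have e : (TX : Subgroup X) = P' := e2.symm.trans e1
    rw [e]
    exact hP'n
  have hC : CoverData HX (S.subgroupOf X) := by
    have hRn : ∀ h ∈ HX, ∀ r ∈ S.subgroupOf X, h * r * h⁻¹ ∈ S.subgroupOf X := fun h hh r hr => by
      have h1 := hnorm h hh r (hTX ▸ mem_subgroupOf.2 (C.closed.1 (mem_subgroupOf.1 hr)))
      rw [hTX] at h1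
      exact mem_subgroupOf.2 (C.closed.2 _ (mem_subgroupOf.1 hr) (h : G) (mem_subgroupOf.1 h1))
    refine ⟨hqs, hZ2, hse', hzle, fun r hr => mem_subgroupOf.2 (Shut_le C (mem_subgroupOf.1 hr)),
      fun h hh => mem_normalizer_of_maps_to (hRn h hh), ?_, ?_⟩
    · intro c hc hcS hcc
      by_contra hne
      refine hZQ c (by rwa [hcen, mem_subgroupOf] at hc) (qs_of_mem (mem_subgroupOf.1 hcS)
        (order_two_of_mul_self (congrArg Subtype.val hcc) fun h => hne (Subtype.ext h)))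
    · intro x hx hx2
      obtain ⟨d, hd⟩ := isConj_iff.1 (all_conj hse' hzπ hx2)
      obtain ⟨d, rfl⟩ := QuotientGroup.mk'_surjective _ d
      rw [← map_inv, ← map_mul, ← map_mul] at hd
      have hN : d * ⟨z, hzX⟩ * d⁻¹ ∈ HX := hliftH _ (hd.symm ▸ mem_map_of_mem π hx)
      exact ⟨_, hRn d (W₀.self d hN) ⟨z, hzX⟩ (mem_subgroupOf.2 hzS), hd⟩
  have hbot := hC.center_eq_bot reg
  haveI : IsSimpleGroup X := by
    have e : X ⧸ center X ≃* X := (QuotientGroup.quotientMulEquivOfEq hbot).trans QuotientGroup.quotientBot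
    exact e.symm.isSimpleGroup
  exact ⟨X, hXn, inferInstance, qs_embedded crit C X hXN hzS hzX hz hzc, z, hzS, hzX, hz⟩

end Cfsg.Lib.ShutClosed
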