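/-
Row 3289, trivial odd core: `S` lies in the simple normal subgroup, and is the Sylow subgroup of it or the
subgroup of its involutions.
-/
import Cfsg.Agent.TwoFusion.ShutClosed.Simple
import Cfsg.Agent.TwoFusion.ShutClosed.Root
import Cfsg.Agent.Coprime.Action

set_option autoImplicit false
set_option linter.style.haveILetI false
set_option linter.unusedSectionVars false

namespace Cfsg.Lib.ShutClosed

open Subgroup Cfsg.Lib.InvolCalc Cfsg.Lib.StrongEmb Cfsg.Lib.Isolated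
open scoped commutatorElement
open Cfsg.Lib.BenderSE.CritDep (Shut exists_sylow_inf)
open Cfsg.Lib.BenderSE (RegProp Setting exists_frame normalCore_eq_bot_of_simple comm_of_nonab mem_normalizer_of_maps_to)
open Cfsg.Lib.BenderSE.ClosedCrit (CriterionProp)

universe u

variable {G : Type u} [Group G] [Finite G] {T : Sylow 2 G} {S H : Subgroup G}

/-- a subgroup supplementing the derived group of a nilpotent group is everything -/
theorem eq_top_of_sup_commutator {P : Type u} [Group P] [Group.IsNilpotent P] (Y : Subgroup P) [Y.Normal]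
    (h : _root_.commutator P ⊔ Y = ⊤) : Y = ⊤ := by
  by_contra hne
  haveI : Nontrivial (P ⧸ Y) := by
    obtain ⟨a, ha⟩ : ∃ a, a ∉ Y := by
      by_contra hall
      push Not at hall
      exact hne (eq_top_iff.2 fun a _ => hall a)
    exact ⟨⟨QuotientGroup.mk a, 1, fun e => ha ((QuotientGroup.eq_one_iff a).1 e)⟩⟩
  refine (Group.IsSolvable.commutator_lt_top_of_nontrivial (G := P ⧸ Y)).ne (eq_top_iff.2 fun q _ => ?_)
  obtain ⟨a, rfl⟩ := QuotientGroup.mk'_surjective Y q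
  have ha : a ∈ ((_root_.commutator P ⊔ Y : Subgroup P) : Set P) := by rw [h]; trivial
  rw [mul_normal] at ha
  obtain ⟨c, hc, w, hw, rfl⟩ := ha
  rw [map_mul, show QuotientGroup.mk' Y w = 1 from (QuotientGroup.eq_one_iff w).2 hw, mul_one]
  have h1 := mem_map_of_mem (QuotientGroup.mk' Y) hc
  rw [_root_.commutator_def, Subgroup.map_commutator,
    map_top_of_surjective _ (QuotientGroup.mk'_surjective Y)] at h1
  rwa [_root_.commutator_def]

theorem shut_inside (crit : CriterionProp.{u}) (reg : RegProp.{u}) (C : Shut T S H)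
    (hO : Cfsg.oddCore G = ⊥) :
    (∀ i ∈ (T : Subgroup G), i ∈ normalClosure (S : Set G) → orderOf i = 2 → i ∈ S) ∧
      (S = (T : Subgroup G) ⊓ normalClosure (S : Set G) ∨
        S = Cfsg.omegaOne 2 ((T : Subgroup G) ⊓ normalClosure (S : Set G))) := by
  haveI : Fact (Nat.Prime 2) := ⟨Nat.prime_two⟩
  obtain ⟨L, hLn, hLs, hse, z, hzS, hzL, hz⟩ := qs_exists_simple crit reg C hO
  haveI := hLn
  haveI := hLs
  have hz1 : z ≠ 1 := ne_one_of_order_two hz
  have hLH : ¬ L ≤ H := not_le_of_mem C hzS hz1 hzL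
  have hna : ¬ IsMulCommutative L := fun h => hLH fun l hl => C.cent z hzS hz1
    (mem_centralizer_singleton_iff.2 (congrArg Subtype.val (h.is_comm.comm ⟨l, hl⟩ ⟨z, hzL⟩)))
  have hset : Setting (H.subgroupOf L) := ⟨hse, normalCore_eq_bot_of_simple hse, comm_of_nonab hse hna⟩
  have hzL2 : orderOf (⟨z, hzL⟩ : L) = 2 := by rw [Subgroup.orderOf_mk, hz]
  obtain ⟨L', P, F⟩ := exists_frame reg hset
  -- the Sylow subgroup of `H ⊓ L`
  obtain ⟨TL, hTL⟩ := exists_sylow_inf T L (by rw [normalizer_eq_top_iff.2 hLn]; exact le_top)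
  obtain ⟨SP, hSP⟩ := F.sylow
  have hP : P = (T : Subgroup G).subgroupOf L := by
    have hle : (TL : Subgroup L) ≤ normalizer (P : Set L) := fun r hr =>
      F.qn (by rw [hTL] at hr; exact mem_subgroupOf.2 (C.sylow_le (mem_subgroupOf.1 hr)))
    have hsup : IsPGroup 2 (P ⊔ (TL : Subgroup L) : Subgroup L) :=
      IsPGroup.to_sup_of_normal_left' F.q2 TL.2 hle
    have e1 := SP.3 hsup (by rw [hSP]; exact le_sup_left)
    have e2 := TL.3 hsup le_sup_right
    rw [← hTL, ← hSP]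
    exact e1.symm.trans e2
  set PG := (T : Subgroup G) ⊓ L with hPG
  have hmemP : ∀ x : L, x ∈ P ↔ (x : G) ∈ PG := fun x => by
    rw [hP, mem_subgroupOf, hPG, mem_inf]
    exact ⟨fun h => ⟨h, x.2⟩, fun h => h.1⟩
  have hPN : ∀ x ∈ PG, x ∈ H ∧ x ∈ L := fun x hx => ⟨C.sylow_le (mem_inf.1 hx).1, (mem_inf.1 hx).2⟩
  have hP2 : IsPGroup 2 PG := T.2.to_le inf_le_left
  have hNP : ∀ n ∈ H, ∀ x ∈ PG, n * x * n⁻¹ ∈ PG := by
    intro n hn x hx
    obtain ⟨hxN, hxL⟩ := hPN x hx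
    set y : L := ⟨n * x * n⁻¹, hLn.conj_mem x hxL n⟩ with hy
    have hyH : y ∈ H.subgroupOf L := mem_subgroupOf.2 (mul_mem (mul_mem hn hxN) (inv_mem hn))
    have hy2 : IsPGroup 2 (zpowers y) := by
      obtain ⟨k, hk⟩ := hP2 ⟨x, hx⟩
      have hk' : x ^ 2 ^ k = 1 := congrArg Subtype.val hk
      obtain ⟨j, -, hj⟩ := (Nat.dvd_prime_pow Nat.prime_two).1 (show orderOf y ∣ 2 ^ k by
        rw [← Subgroup.orderOf_coe, hy, orderOf_conj']
        exact orderOf_dvd_of_pow_eq_one hk')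
      exact IsPGroup.of_card (n := j) (by rw [Nat.card_zpowers, hj])
    have hsup : IsPGroup 2 (P ⊔ zpowers y : Subgroup L) :=
      IsPGroup.to_sup_of_normal_left' F.q2 hy2 (zpowers_le.2 (F.qn hyH))
    have := SP.3 hsup (hSP ▸ le_sup_left)
    exact (hmemP y).1 (hSP ▸ this ▸ mem_sup_right (mem_zpowers y))
  obtain ⟨g, hgL, hgH⟩ := SetLike.not_le_iff_exists.1 hLH
  have htrans : ∀ m ∈ H, ∃ x ∈ PG, g⁻¹ * (x⁻¹ * m) * g ∈ H := by
    intro m hm
    have hmL : m * g * m⁻¹ ∈ L := hLn.conj_mem g hgL m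
    have h2 : (⟨m * g * m⁻¹, hmL⟩ : L) ∉ H.subgroupOf L := fun h => hgH (by
      have := mul_mem (mul_mem (inv_mem hm) (mem_subgroupOf.1 h)) hm
      rwa [show m⁻¹ * (m * g * m⁻¹) * m = g by group] at this)
    obtain ⟨x, hx, hxe⟩ := F.trans ⟨g, hgL⟩ ⟨m * g * m⁻¹, hmL⟩ (fun h => hgH h) h2
    refine ⟨x, (hmemP x).1 hx, ?_⟩
    have hv : (m * g * m⁻¹)⁻¹ * ((x : G) * g) ∈ H := hxe
    have := mul_mem (inv_mem hv) hm
    rwa [show ((m * g * m⁻¹)⁻¹ * ((x : G) * g))⁻¹ * m = g⁻¹ * ((x : G)⁻¹ * m) * g by group] at this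
  -- the two point stabiliser in `L`
  set D : Subgroup G := H ⊓ L ⊓ H.map (MulAut.conj g).toMonoidHom with hD
  have hmemD : ∀ τ, τ ∈ D ↔ τ ∈ H ∧ τ ∈ L ∧ g⁻¹ * τ * g ∈ H := fun τ => by
    rw [hD, mem_inf, mem_inf, mem_conj_iff, and_assoc]
  have hDodd : Odd (Nat.card D) := by
    rw [← Nat.not_even_iff_odd]
    intro he
    obtain ⟨t, ht, ht2⟩ := exists_involution_of_even he
    obtain ⟨htN, htL, htg⟩ := (hmemD t).1 ht
    exact hgH (mem_subgroupOf.1 (Cfsg.Lib.StrongEmb.mem_of_involution (g := (⟨g, hgL⟩ : L)) hse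
      (t := ⟨t, htL⟩) (by rw [Subgroup.orderOf_mk, ht2]) htN htg))
  have hPD : ∀ m ∈ H, m ∈ L → ∃ x ∈ PG, x⁻¹ * m ∈ D := by
    intro m hm hmL
    obtain ⟨x, hx, hxg⟩ := htrans m hm
    obtain ⟨hxN, hxL⟩ := hPN x hx
    exact ⟨x, hx, (hmemD _).2 ⟨mul_mem (inv_mem hxN) hm, mul_mem (inv_mem hxL) hmL, hxg⟩⟩
  -- the involutions of `L` in `H`
  have hinv : ∀ j : L, orderOf j = 2 → j ∈ H.subgroupOf L → (j : G) ∈ S ∧ (j : G) ∈ PG := by
    intro j hj hjH
    have hjP : (j : G) ∈ PG := (hmemP j).1 (F.qinvol j hj hjH).1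
    obtain ⟨l, hl⟩ := isConj_iff.1 (all_conj hse hzL2 hj)
    have hl' : (l : G) * z * (l : G)⁻¹ = j := congrArg Subtype.val hl
    exact ⟨hl' ▸ C.closed.2 z hzS l (hl'.symm ▸ (mem_inf.1 hjP).1), hjP⟩
  set R := S ⊓ PG with hR
  have hNR : ∀ n ∈ H, ∀ r ∈ R, n * r * n⁻¹ ∈ R := fun n hn r hr => by
    have h1 := hNP n hn r (mem_inf.1 hr).2
    exact mem_inf.2 ⟨C.closed.2 r (mem_inf.1 hr).1 n (mem_inf.1 h1).1, h1⟩
  have hback : ∀ u ∈ S, g⁻¹ * u * g ∈ H → u = 1 := fun u hu hug => by_contra fun hne => hgH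
    (inv_mem_iff.1 (C.isolated hu hne (g := g⁻¹) (by rwa [inv_inv])))
  -- `S` is inside `L`
  have hmain : (∀ q ∈ S, q ∈ L) ∧ (R = PG ∨ ∀ r ∈ R, r * r = 1) := by
    by_cases hRP : R = PG
    · refine ⟨fun q hq => ?_, Or.inl hRP⟩
      obtain ⟨x, hx, hxg⟩ := htrans q (Shut_le C hq)
      have h1 := hback (x⁻¹ * q) (mul_mem (inv_mem (mem_inf.1 (hRP.symm ▸ hx)).1) hq) hxg
      rw [← inv_mul_eq_one.1 h1]
      exact (hPN x hx).2
    -- the exponent
    set Y := R.subgroupOf L with hY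
    have hYP : Y ≤ P := fun r hr => (hmemP r).2 (mem_inf.1 (mem_subgroupOf.1 hr)).2
    have hI : ∀ i : L, orderOf i = 2 → i ∈ H.subgroupOf L → i ∈ Y := fun i hi hiH =>
      mem_subgroupOf.2 (mem_inf.2 (hinv i hi hiH))
    have hYinv : ∀ h ∈ H.subgroupOf L, ∀ r ∈ Y, h * r * h⁻¹ ∈ Y := fun h hh r hr =>
      mem_subgroupOf.2 (hNR _ (mem_subgroupOf.1 hh) _ (mem_subgroupOf.1 hr))
    have hR2 : ∀ r ∈ R, r * r = 1 := by
      rcases invariant_dichotomy hset F hYP hYinv hI with h | h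
      · exact absurd (le_antisymm inf_le_right fun x hx =>
          (mem_subgroupOf.1 (h ▸ (hmemP ⟨x, (hPN x hx).2⟩).2 hx : (⟨x, (hPN x hx).2⟩ : L) ∈ Y))) hRP
      · intro r hr
        exact congrArg Subtype.val (h ⟨r, (hPN r (mem_inf.1 hr).2).2⟩ (mem_subgroupOf.2 hr))
    have hsq : ∀ a : L, a ∈ P → a * a = 1 → a ∈ Y := fun a ha ha2 => by
      by_cases h1 : a = 1
      · exact h1 ▸ one_mem Y
      · exact hI a (order_two_of_mul_self ha2 h1) (F.qle ha)
    have hRc : ∀ r ∈ R, ∀ p ∈ PG, Commute r p := fun r hr p hp => by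
      by_cases h1 : r = 1
      · exact h1 ▸ Commute.one_left p
      have hr2 : orderOf (⟨r, (hPN r (mem_inf.1 hr).2).2⟩ : L) = 2 := by
        rw [Subgroup.orderOf_mk]; exact order_two_of_mul_self (hR2 r hr) h1
      exact congrArg Subtype.val ((F.qinvol _ hr2 (mem_subgroupOf.2 (hPN r (mem_inf.1 hr).2).1)).2
        ⟨p, (hPN p hp).2⟩ ((hmemP _).2 hp))
    -- `PG / R` is abelian
    have hab : ∀ a ∈ PG, ∀ b ∈ PG, a * b * a⁻¹ * b⁻¹ ∈ R := by
      have hY1le : ⁅P, P⁆ ⊔ Y ≤ P := sup_le (commutator_le.2 fun a ha b hb =>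
        mul_mem (mul_mem (mul_mem ha hb) (inv_mem ha)) (inv_mem hb)) hYP
      have hY1inv : ∀ h ∈ H.subgroupOf L, ∀ r ∈ ⁅P, P⁆ ⊔ Y, h * r * h⁻¹ ∈ ⁅P, P⁆ ⊔ Y := fun h hh r hr => by
        have hle : (⁅P, P⁆ ⊔ Y).map (MulAut.conj h).toMonoidHom ≤ ⁅P, P⁆ ⊔ Y := by
          rw [Subgroup.map_sup, Subgroup.map_commutator]
          refine sup_le_sup (commutator_mono ?_ ?_) ?_ <;> rintro _ ⟨w, hw, rfl⟩
          · exact (mem_normalizer_iff.1 (F.qn hh) w).1 hw
          · exact (mem_normalizer_iff.1 (F.qn hh) w).1 hw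
          · exact hYinv h hh w hw
        exact hle ⟨r, hr, rfl⟩
      rcases invariant_dichotomy hset F hY1le hY1inv (fun i hi hiH => mem_sup_right (hI i hi hiH)) with h | h
      · exfalso
        haveI : Group.IsNilpotent P := F.q2.isNilpotent
        haveI : (Y.subgroupOf P).Normal := ⟨fun w hw p => mem_subgroupOf.2
          (hYinv _ (F.qle p.2) _ (mem_subgroupOf.1 hw))⟩
        have htop : _root_.commutator P ⊔ Y.subgroupOf P = ⊤ := map_injective P.subtype_injective (by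
          rw [Subgroup.map_sup, map_subtype_commutator, subgroupOf_map_subtype, inf_eq_left.2 hYP,
            ← MonoidHom.range_eq_map, range_subtype]
          exact h)
        have hYP' : P ≤ Y := subgroupOf_eq_top.1 (eq_top_of_sup_commutator (Y.subgroupOf P) htop)
        exact hRP (le_antisymm inf_le_right fun x hx =>
          (mem_subgroupOf.1 (hYP' ((hmemP ⟨x, (hPN x hx).2⟩).2 hx))))
      · intro a ha b hb
        have ha' := (hmemP ⟨a, (hPN a ha).2⟩).2 ha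
        have hb' := (hmemP ⟨b, (hPN b hb).2⟩).2 hb
        have hc : ⁅(⟨a, (hPN a ha).2⟩ : L), ⟨b, (hPN b hb).2⟩⁆ ∈ ⁅P, P⁆ ⊔ Y :=
          mem_sup_left (commutator_mem_commutator ha' hb')
        exact mem_subgroupOf.1 (hsq _ (hY1le hc) (h _ hc))
    -- every element of `R` is a square
    obtain ⟨p₁, hp₁, hp₁2⟩ : ∃ p ∈ PG, orderOf (p * p) = 2 := by
      obtain ⟨p, hp, hp2⟩ : ∃ p ∈ PG, p * p ≠ 1 := by
        by_contra hall
        push Not at hall
        exact hRP (le_antisymm inf_le_right fun x hx => mem_subgroupOf.1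
          (hsq ⟨x, (hPN x hx).2⟩ ((hmemP _).2 hx) (Subtype.ext (hall x hx))))
      obtain ⟨k, hk⟩ := hP2.exists_orderOf_eq_pow ⟨p, hp⟩
      rw [Subgroup.orderOf_mk] at hk
      have hk2 : 2 ≤ k := by
        by_contra hlt
        refine hp2 ?_
        rw [← pow_two, ← orderOf_dvd_iff_pow_eq_one, hk]
        exact (pow_dvd_pow 2 (show k ≤ 1 by omega)).trans (by norm_num)
      refine ⟨p ^ 2 ^ (k - 2), pow_mem hp _, ?_⟩
      rw [← pow_add, ← two_mul, ← pow_succ', orderOf_pow_of_dvd (pow_ne_zero _ two_ne_zero)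
        (hk ▸ pow_dvd_pow 2 (by omega)), hk, Nat.pow_div (by omega) two_pos,
        show k - (k - 2 + 1) = 1 by omega, pow_one]
    have hsquare : ∀ r ∈ R, r ≠ 1 → ∃ p ∈ PG, p * p = r := by
      intro r hr hr1
      obtain ⟨hrH, hrL⟩ := hPN r (mem_inf.1 hr).2
      obtain ⟨hiH, hiL⟩ := hPN _ (mul_mem hp₁ hp₁)
      obtain ⟨l, hl⟩ := isConj_iff.1 (all_conj hse (a := (⟨p₁ * p₁, hiL⟩ : L)) (b := ⟨r, hrL⟩)
        (by rw [Subgroup.orderOf_mk, hp₁2])
        (by rw [Subgroup.orderOf_mk]; exact order_two_of_mul_self (hR2 r hr) hr1))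
      have hlH : l ∈ H.subgroupOf L := Cfsg.Lib.StrongEmb.conj_eq hse (t := ⟨p₁ * p₁, hiL⟩) (g := l) (by rw [Subgroup.orderOf_mk, hp₁2])
        (mem_subgroupOf.2 hiH) (by rw [hl]; exact mem_subgroupOf.2 hrH)
      refine ⟨(l : G) * p₁ * (l : G)⁻¹, hNP _ (mem_subgroupOf.1 hlH) p₁ hp₁, ?_⟩
      rw [← show (l : G) * (p₁ * p₁) * (l : G)⁻¹ = r from congrArg Subtype.val hl]
      group
    -- elements acting trivially modulo `R`
    have hcomp : ∀ v w : G, w ∈ H → (∀ p ∈ PG, p⁻¹ * (v * p * v⁻¹) ∈ R) → (∀ p ∈ PG, p⁻¹ * (w * p * w⁻¹) ∈ R) →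
        ∀ p ∈ PG, p⁻¹ * (v * w * p * (v * w)⁻¹) ∈ R := fun v w hw hv hwt p hp => by
      rw [show p⁻¹ * (v * w * p * (v * w)⁻¹) =
        p⁻¹ * (w * p * w⁻¹) * ((w * p * w⁻¹)⁻¹ * (v * (w * p * w⁻¹) * v⁻¹)) by group]
      exact mul_mem (hwt p hp) (hv _ (hNP w hw p hp))
    have hinvt : ∀ v, v ∈ H → (∀ p ∈ PG, p⁻¹ * (v * p * v⁻¹) ∈ R) →
        ∀ p ∈ PG, p⁻¹ * (v⁻¹ * p * v⁻¹⁻¹) ∈ R := fun v hv h p hp => by
      have := inv_mem (h _ (hNP v⁻¹ (inv_mem hv) p hp))
      rwa [show ((v⁻¹ * p * v⁻¹⁻¹)⁻¹ * (v * (v⁻¹ * p * v⁻¹⁻¹) * v⁻¹))⁻¹ = p⁻¹ * (v⁻¹ * p * v⁻¹⁻¹) by group] at this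
    have hS : ∀ q ∈ S, q ∈ L := by
      intro q hq
      obtain ⟨x, hx, hxg⟩ := htrans q (Shut_le C hq)
      obtain ⟨hxN, hxL⟩ := hPN x hx
      set u := x⁻¹ * q with hu
      have huH : u ∈ H := mul_mem (inv_mem hxN) (Shut_le C hq)
      have hxt : ∀ p ∈ PG, p⁻¹ * (x * p * x⁻¹) ∈ R := fun p hp => by
        have := hab _ (inv_mem hp) x hx
        rwa [inv_inv, show p⁻¹ * x * p * x⁻¹ = p⁻¹ * (x * p * x⁻¹) by group] at this
      have hqt : ∀ p ∈ PG, p⁻¹ * (q * p * q⁻¹) ∈ R := fun p hp => by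
        refine mem_inf.2 ⟨?_, mul_mem (inv_mem hp) (hNP q (Shut_le C hq) p hp)⟩
        rw [show p⁻¹ * (q * p * q⁻¹) = p⁻¹ * q * p⁻¹⁻¹ * q⁻¹ by group]
        exact mul_mem (conj_mem_of_closed C.closed (inv_mem (mem_inf.1 hp).1) hq) (inv_mem hq)
      have hut : ∀ p ∈ PG, p⁻¹ * (u * p * u⁻¹) ∈ R :=
        hcomp x⁻¹ q (Shut_le C hq) (hinvt x hxN hxt) hqt
      have key : ∀ τ ∈ D, τ * x * τ⁻¹ * x⁻¹ ∈ R := by
        intro τ hτ
        obtain ⟨hτN, hτL, hτg⟩ := (hmemD τ).1 hτ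
        set c := τ * u * τ⁻¹ * u⁻¹ with hc
        have hcH : c ∈ H := mul_mem (mul_mem (mul_mem hτN huH) (inv_mem hτN)) (inv_mem huH)
        have hcD : c ∈ D := (hmemD c).2 ⟨hcH, by
          rw [hc, show τ * u * τ⁻¹ * u⁻¹ = τ * (u * τ⁻¹ * u⁻¹) by group]
          exact mul_mem hτL (hLn.conj_mem _ (inv_mem hτL) u), by
          have := mul_mem (mul_mem (mul_mem hτg hxg) (inv_mem hτg)) (inv_mem hxg)
          rwa [hc, show g⁻¹ * (τ * u * τ⁻¹ * u⁻¹) * g =
            g⁻¹ * τ * g * (g⁻¹ * u * g) * (g⁻¹ * τ * g)⁻¹ * (g⁻¹ * u * g)⁻¹ by group]⟩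
        have hct : ∀ p ∈ PG, p⁻¹ * (c * p * c⁻¹) ∈ R := by
          refine hcomp (τ * u * τ⁻¹) u⁻¹ (inv_mem huH) (fun p hp => ?_) (hinvt u huH hut)
          have := hNR τ hτN _ (hut _ (hNP τ⁻¹ (inv_mem hτN) p hp))
          rwa [show τ * ((τ⁻¹ * p * τ⁻¹⁻¹)⁻¹ * (u * (τ⁻¹ * p * τ⁻¹⁻¹) * u⁻¹)) * τ⁻¹ =
            p⁻¹ * (τ * u * τ⁻¹ * p * (τ * u * τ⁻¹)⁻¹) by group] at this
        have hco : Odd (orderOf c) := hDodd.of_dvd_nat (Subgroup.orderOf_dvd_natCard D hcD)
        have hsqfix : ∀ p ∈ PG, c * (p * p) * c⁻¹ = p * p := fun p hp => by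
          set r := p⁻¹ * (c * p * c⁻¹) with hr
          have hrR : r ∈ R := hct p hp
          have e : c * p * c⁻¹ = p * r := by rw [hr]; group
          calc c * (p * p) * c⁻¹ = c * p * c⁻¹ * (c * p * c⁻¹) := by group
            _ = p * r * (p * r) := by rw [e]
            _ = p * (r * p) * r := by group
            _ = p * (p * r) * r := by rw [(hRc r hrR p hp).eq]
            _ = p * p * (r * r) := by group
            _ = p * p := by rw [hR2 r hrR, mul_one]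
        have hRfix : ∀ r ∈ R, c * r * c⁻¹ = r := fun r hr => by
          by_cases h1 : r = 1
          · rw [h1]; group
          obtain ⟨p, hp, rfl⟩ := hsquare r hr h1
          exact hsqfix p hp
        have hfixP : ∀ p ∈ PG, c * p * c⁻¹ = p := fun p hp => by
          have h1 := eq_one_of_translate hco (k := 1) (q := p) (d := p⁻¹ * (c * p * c⁻¹))
            (by rw [pow_one, pow_two]; exact hR2 _ (hct p hp)) (hRfix _ (hct p hp)) (by group)
          exact (inv_mul_eq_one.1 h1).symm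
        have hc1 : c = 1 := by
          obtain ⟨-, hcL, hcg⟩ := (hmemD c).1 hcD
          have hcore : (⟨c, hcL⟩ : L) ∈ (H.subgroupOf L).normalCore := fun a => by
            rw [mem_subgroupOf]
            show (a : G) * c * (a : G)⁻¹ ∈ H
            by_cases ha : a⁻¹ ∈ H.subgroupOf L
            · exact mul_mem (mul_mem (inv_mem_iff.1 ha) hcH) (inv_mem (inv_mem_iff.1 ha))
            obtain ⟨v, hv, hvk⟩ := F.trans ⟨g, hgL⟩ a⁻¹ (fun h => hgH h) ha
            have hvk' : (a : G) * ((v : G) * g) ∈ H := by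
              have := mem_subgroupOf.1 hvk
              simpa using this
            have h1 : (v : G)⁻¹ * c * (v : G) = c := by
              calc (v : G)⁻¹ * c * (v : G) = (v : G)⁻¹ * (c * (v : G) * c⁻¹) * c := by group
                _ = c := by rw [hfixP _ ((hmemP v).1 hv), inv_mul_cancel, one_mul]
            rw [show (a : G) * c * (a : G)⁻¹ = (a : G) * ((v : G) * g) * (g⁻¹ * ((v : G)⁻¹ * c * (v : G)) * g) *
              ((a : G) * ((v : G) * g))⁻¹ by group, h1]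
            exact mul_mem (mul_mem hvk' hcg) (inv_mem hvk')
          rw [hset.core, mem_bot] at hcore
          exact congrArg Subtype.val hcore
        set w := τ * x * τ⁻¹ * x⁻¹ with hw
        have hwP : w ∈ PG := mul_mem (hNP τ hτN x hx) (inv_mem hx)
        have hconj : τ * q * τ⁻¹ = w * q := by
          rw [hw, show τ * q * τ⁻¹ = τ * x * τ⁻¹ * (τ * u * τ⁻¹ * u⁻¹) * u by rw [hu]; group, ← hc, hc1, mul_one, hu]
          group
        have h1 : τ * q * τ⁻¹ ∈ S := C.closed.2 q hq τ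
          (hconj ▸ mul_mem (mem_inf.1 hwP).1 (C.closed.1 hq))
        rw [hconj] at h1
        exact mem_inf.2 ⟨(mul_mem_cancel_right hq).1 h1, hwP⟩
      obtain ⟨r, hr, hrc⟩ := Cfsg.Lib.Coprime.exists_fixed_of_commutator_mem (A := D) (N := R) (k := x)
        (fun τ hτ => mem_normalizer_of_maps_to (hNR τ ((hmemD τ).1 hτ).1))
        (by
          obtain ⟨k, hk⟩ := IsPGroup.iff_card.1 (hP2.to_le (inf_le_right : R ≤ PG))
          rw [hk]; exact Nat.Coprime.pow_right _ (Nat.coprime_two_right.2 hDodd))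
        (Or.inr (by
          haveI := (hP2.to_le (inf_le_right : R ≤ PG)).isNilpotent
          exact inferInstance))
        (mem_normalizer_of_maps_to (hNR x hxN)) key
      have hCT : ∀ p ∈ PG, (∀ τ ∈ D, τ * p = p * τ) → p = 1 := by
        intro p hp hc
        by_contra hne
        obtain ⟨k, hk⟩ := hP2.exists_orderOf_eq_pow ⟨p, hp⟩
        rw [Subgroup.orderOf_mk] at hk
        have hk0 : k ≠ 0 := fun h => hne (orderOf_eq_one_iff.1 (by rw [hk, h, pow_zero]))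
        set i := p ^ 2 ^ (k - 1) with hi
        have hi2 : orderOf i = 2 := by
          rw [hi, orderOf_pow_of_dvd (pow_ne_zero _ two_ne_zero) (hk ▸ pow_dvd_pow 2 (Nat.sub_le k 1)), hk,
            Nat.pow_div (Nat.sub_le k 1) two_pos, show k - (k - 1) = 1 by omega, pow_one]
        have hiP : i ∈ PG := pow_mem hp _
        set i' : L := ⟨i, (hPN i hiP).2⟩ with hi'
        have hi'H : i' ∈ H.subgroupOf L := mem_subgroupOf.2 (hPN i hiP).1
        have hi2' : orderOf i' = 2 := by rw [hi', Subgroup.orderOf_mk, hi2]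
        have hcom := (F.qinvol i' hi2' hi'H).2
        have hcent : ∀ h ∈ H.subgroupOf L, h * i' * h⁻¹ = i' := by
          intro h hh
          obtain ⟨v, hv, hvD⟩ := hPD h hh h.2
          have h1 : Commute (v⁻¹ * (h : G)) i := by
            rw [hi]; exact (show Commute _ p from hc _ hvD).pow_right _
          have h2 : Commute v i := (congrArg Subtype.val (hcom ⟨v, (hPN v hv).2⟩ ((hmemP _).2 hv))).symm
          have h3 : Commute (h : G) i := by simpa using h2.mul_left h1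
          exact Subtype.ext (by
            show (h : G) * i * (h : G)⁻¹ = i
            rw [h3.eq, mul_inv_cancel_right])
        have hall : ∀ j : L, orderOf j = 2 → j ∈ H.subgroupOf L → j = i' := by
          intro j hj hjH
          obtain ⟨l, rfl⟩ := isConj_iff.1 (all_conj hse hi2' hj)
          exact hcent l (Cfsg.Lib.StrongEmb.conj_eq hse hi2' hi'H hjH)
        haveI : Subsingleton {j : L // orderOf j = 2 ∧ j ∈ H.subgroupOf L} :=
          ⟨fun a b => Subtype.ext ((hall a a.2.1 a.2.2).trans (hall b b.2.1 b.2.2).symm)⟩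
        obtain ⟨k', e, hk', -, -, hcard⟩ := F.qcard
        have h4 : 2 ^ 2 ≤ 2 ^ k' := Nat.pow_le_pow_right two_pos hk'
        have h5 := Finite.card_le_one_iff_subsingleton.2
          ‹Subsingleton {j : L // orderOf j = 2 ∧ j ∈ H.subgroupOf L}›
        omega
      have h1 : x * r = 1 := hCT _ (mul_mem hx (mem_inf.1 hr).2) (mem_centralizer_iff.1 hrc)
      have hxS : x ∈ S := eq_inv_of_mul_eq_one_left h1 ▸ inv_mem (mem_inf.1 hr).1
      have h2 := hback u (mul_mem (inv_mem hxS) hq) hxg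
      rw [← inv_mul_eq_one.1 h2]
      exact hxL
    exact ⟨hS, Or.inr hR2⟩
  obtain ⟨hSL, hcase⟩ := hmain
  -- the normal closure
  have hX : normalClosure (S : Set G) = L := by
    refine le_antisymm (normalClosure_le_normal hSL) ?_
    haveI : ((normalClosure (S : Set G)).subgroupOf L).Normal := inferInstance
    refine subgroupOf_eq_top.1 ((hLs.eq_bot_or_eq_top_of_normal _ inferInstance).resolve_left fun h => ?_)
    have h1 : (⟨z, hzL⟩ : L) ∈ (normalClosure (S : Set G)).subgroupOf L :=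
      mem_subgroupOf.2 (subset_normalClosure hzS)
    rw [h, mem_bot] at h1
    exact hz1 (congrArg Subtype.val h1)
  rw [hX]
  have hinvS : ∀ i ∈ (T : Subgroup G), i ∈ L → orderOf i = 2 → i ∈ S := fun i hiT hiL hi =>
    (hinv ⟨i, hiL⟩ (by rw [Subgroup.orderOf_mk, hi]) (mem_subgroupOf.2 (C.sylow_le hiT))).1
  refine ⟨hinvS, ?_⟩
  have hSPG : S ≤ PG := fun s hs => mem_inf.2 ⟨C.closed.1 hs, hSL s hs⟩
  rcases hcase with h | h
  · exact Or.inl (le_antisymm hSPG ((le_of_eq h.symm).trans inf_le_left))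
  · refine Or.inr ?_
    unfold Cfsg.omegaOne
    refine le_antisymm (fun s hs => ?_) ((closure_le _).2 ?_)
    · refine subset_closure ⟨hSPG hs, ?_⟩
      rw [pow_two]
      exact h s (mem_inf.2 ⟨hs, hSPG hs⟩)
    · rintro i ⟨hiP, hi2⟩
      by_cases h1 : i = 1
      · exact h1 ▸ one_mem S
      · exact hinvS i (mem_inf.1 hiP).1 (mem_inf.1 hiP).2 (orderOf_eq_prime hi2 h1)

end Cfsg.Lib.ShutClosed
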