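/-
Row 3289: assembly.
-/
import Cfsg.Agent.TwoFusion.ShutClosed.Inside
import Cfsg.Agent.BenderSE.Criterion2.CriterionFinal
import Cfsg.Agent.BenderSE.Final

set_option autoImplicit false
set_option linter.style.haveILetI false
set_option linter.unusedSectionVars false

namespace Cfsg.Lib.ShutClosed

open Subgroup Cfsg.Lib.InvolCalc Cfsg.Lib.StrongEmb Cfsg.Lib.Isolated
open Cfsg.Lib.BenderSE.CritDep (Shut)
open Cfsg.Lib.RankOneInter (FourIn)

universe u

variable {G : Type u} [Group G] [Finite G] {T : Sylow 2 G} {S H : Subgroup G}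

theorem not_fourIn_of_rankLE (h : Cfsg.PRankLE 2 1 ↥S) : ¬ FourIn S := by
  rintro ⟨u, v, hu, hv, hu2, hv2, hu1, hv1, hne, hc⟩
  set a : S := ⟨u, hu⟩
  set b : S := ⟨v, hv⟩
  have ha : a * a = 1 := Subtype.ext hu2
  have hb : b * b = 1 := Subtype.ext hv2
  have hab : Commute a b := Subtype.ext hc
  have hcomm : IsMulCommutative (closure ({a, b} : Set S)) := isMulCommutative_closure (by
    rintro p (rfl | rfl) q (rfl | rfl) <;> first | rfl | exact hab.eq | exact hab.eq.symm)
  have hexp : ∀ w ∈ closure ({a, b} : Set S), w ^ 2 = 1 := by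
    intro w hw
    induction hw using closure_induction with
    | mem w hw =>
      rcases hw with rfl | rfl
      · rw [pow_two, ha]
      · rw [pow_two, hb]
    | one => exact one_pow 2
    | mul p q hp hq ihp ihq =>
      rw [(show Commute p q from congrArg Subtype.val
        (hcomm.is_comm.comm ⟨p, hp⟩ ⟨q, hq⟩)).mul_pow, ihp, ihq, one_mul]
    | inv p _ ih => rw [inv_pow, ih, inv_one]
  have h2 := h _ hcomm hexp
  have h3 : Nat.card (Fin 3) ≤ Nat.card (closure ({a, b} : Set S)) :=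
    Nat.card_le_card_of_injective ![1, ⟨a, subset_closure (by simp)⟩, ⟨b, subset_closure (by simp)⟩] (by
      intro i j hij
      have h' := congrArg (fun w : closure ({a, b} : Set S) => ((w : S) : G)) hij
      fin_cases i <;> fin_cases j <;>
        simp [a, b, hu1, hv1, hne, Ne.symm hu1, Ne.symm hv1, Ne.symm hne] at h' ⊢)
  rw [Nat.card_fin, pow_one] at *
  omega

/-- ROW 3289 -/
theorem shut_main (C : Shut T S H) :
    Cfsg.IsStronglyEmbedded ((H ⊓ normalClosure (S : Set G)).subgroupOf (normalClosure (S : Set G))) ∧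
      (S = (T : Subgroup G) ⊓ normalClosure (S : Set G) ∨
        S = Cfsg.omegaOne 2 ((T : Subgroup G) ⊓ normalClosure (S : Set G))) ∧
      (Cfsg.PRankLE 2 1 ↥S → S = (T : Subgroup G) ⊓ normalClosure (S : Set G)) := by
  haveI : Fact (Nat.Prime 2) := ⟨Nat.prime_two⟩
  by_cases h4 : FourIn S
  swap
  · have h := eq_inf_of_rankOne C h4
    exact ⟨embedded_of_invol C fun i hiT hiX _ => h ▸ mem_inf.2 ⟨hiT, hiX⟩, Or.inl h, fun _ => h⟩
  suffices h : (∀ i ∈ (T : Subgroup G), i ∈ normalClosure (S : Set G) → orderOf i = 2 → i ∈ S) ∧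
      (S = (T : Subgroup G) ⊓ normalClosure (S : Set G) ∨
        S = Cfsg.omegaOne 2 ((T : Subgroup G) ⊓ normalClosure (S : Set G))) from
    ⟨embedded_of_invol C h.1, h.2, fun h1 => absurd h4 (not_fourIn_of_rankLE h1)⟩
  set O := Cfsg.pPrimeCore 2 G with hO
  have hodd : Odd (Nat.card O) := Cfsg.Lib.ZStarApps.odd_card_pPrimeCore
  set π := QuotientGroup.mk' O with hπ
  have C' := shut_quotient C O hodd (oddCore_le C h4)
  obtain ⟨hi', hcase⟩ := shut_inside Cfsg.Lib.BenderSE.Crit2.criterionFinal Cfsg.Lib.BenderSE.regProp C'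
    Cfsg.Lib.Coprime.pPrimeCore_quotient_eq_bot
  set X := normalClosure (S : Set G) with hX
  have hmap : X.map π = normalClosure ((S.map π : Subgroup (G ⧸ O)) : Set (G ⧸ O)) := by
    rw [hX, Subgroup.map_normalClosure _ _ (QuotientGroup.mk'_surjective O), Subgroup.coe_map]
  rw [← hmap, Sylow.coe_mapSurjective] at hi' hcase
  have hinj : ∀ a b, a ∈ (T : Subgroup G) → b ∈ (T : Subgroup G) → π a = π b → a = b :=
    fun a b ha hb e => inv_mul_eq_one.1 (inj_of_odd T hodd (mul_mem (inv_mem ha) hb) (QuotientGroup.eq.1 e))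
  have hback : ∀ t ∈ (T : Subgroup G), π t ∈ S.map π → t ∈ S := fun t ht hts => by
    obtain ⟨s, hs, he⟩ := hts
    exact hinj s t (C.closed.1 hs) ht he ▸ hs
  have hinv : ∀ i ∈ (T : Subgroup G), i ∈ X → orderOf i = 2 → i ∈ S := fun i hiT hiX hi =>
    hback i hiT (hi' _ (mem_map_of_mem π hiT) (mem_map_of_mem π hiX) (order_two_of_mul_self
      (by rw [← map_mul, sq_of_order_two hi, map_one])
      fun e => ne_one_of_order_two hi (hinj i 1 hiT (one_mem _) (by rw [e, map_one]))))
  refine ⟨hinv, ?_⟩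
  have hSX : S ≤ (T : Subgroup G) ⊓ X := le_inf C.closed.1 fun s hs => subset_normalClosure hs
  rcases hcase with h | h
  · refine Or.inl (le_antisymm hSX fun t ht => hback t (mem_inf.1 ht).1 ?_)
    rw [h]
    exact mem_inf.2 ⟨mem_map_of_mem π (mem_inf.1 ht).1, mem_map_of_mem π (mem_inf.1 ht).2⟩
  · refine Or.inr (le_antisymm (fun s hs => ?_) ?_)
    · have h1 : π s ∈ (Cfsg.omegaOne 2 ((T : Subgroup G) ⊓ X)).map π := by
        have hle : Cfsg.omegaOne 2 ((T : Subgroup G).map π ⊓ X.map π) ≤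
            (Cfsg.omegaOne 2 ((T : Subgroup G) ⊓ X)).map π := by
          refine (closure_le _).2 ?_
          rintro q ⟨hq, hq2⟩
          by_cases hq1 : q = 1
          · exact hq1 ▸ one_mem _
          obtain ⟨r, hr, rfl⟩ := hi' q (mem_inf.1 hq).1 (mem_inf.1 hq).2 (orderOf_eq_prime hq2 hq1)
          refine mem_map_of_mem π (subset_closure ⟨hSX hr, ?_⟩)
          rw [pow_two]
          exact hinj _ _ (mul_mem (C.closed.1 hr) (C.closed.1 hr)) (one_mem _)
            (by rw [map_mul, map_one, ← pow_two, hq2])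
        exact hle (h ▸ mem_map_of_mem π hs)
      obtain ⟨r, hr, he⟩ := h1
      have hrT : r ∈ (T : Subgroup G) :=
        ((closure_le _).2 fun w hw => (mem_inf.1 hw.1).1 : Cfsg.omegaOne 2 ((T : Subgroup G) ⊓ X) ≤ T) hr
      exact hinj r s hrT (C.closed.1 hs) he ▸ hr
    · refine (closure_le _).2 ?_
      rintro i ⟨hi, hi2⟩
      by_cases h1 : i = 1
      · exact h1 ▸ one_mem S
      · exact hinv i (mem_inf.1 hi).1 (mem_inf.1 hi).2 (orderOf_eq_prime hi2 h1)

end Cfsg.Lib.ShutClosed
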